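import Cfsg.Agent.Lib.Chev.U43InU6.Main
import Cfsg.Agent.Lib.InvChar.PackedMat
import Cfsg.Prelude.Def_MonsterType

/-!
# Coordinates for the centraliser in the large Fischer type

`Q / ⟨z⟩` as a six-dimensional unitary space over the field with four elements, on which the subgroup of index two
of the centraliser acts as one of the three covers `Kb` of `PSU₄(3)`.
-/

set_option autoImplicit false

namespace CfsgLib.Trans3.FiLarge

open Matrix CfsgLib.Chev.U43U6
open CfsgLib.InvChar (FQ4)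

/-- The field with four elements. -/
abbrev F4 : Type := FQ4

/-- A primitive cube root of unity. -/
def om : F4 := ⟨2⟩

theorem isOmega_om : IsOmega om := by
  constructor
  · decide
  · decide

theorem card_F4 : Fintype.card F4 = 4 := FQ4.card_eq

/-- The space. -/
abbrev V6 : Type := Fin 6 → F4

/-- The cover number `b`. -/
noncomputable abbrev K (b : Fin 3) : Subgroup (GS F4) := Kb isOmega_om card_F4 b

/-- The hermitian form. -/
noncomputable abbrev herm6 (u v : V6) : F4 := Cfsg.hermForm 6 F4 2 u v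

variable {G : Type*} [Group G]

/-- Coordinates on `Q / ⟨z⟩`. The function `pr` is only meaningful on `Q`. -/
structure Coord (z : G) (Q : Subgroup (Subgroup.centralizer ({z} : Set G))) where
  /-- Which cover occurs. -/
  b : Fin 3
  /-- The projection. -/
  pr : Subgroup.centralizer ({z} : Set G) → V6
  pr_mul : ∀ q ∈ Q, ∀ r ∈ Q, pr (q * r) = pr q + pr r
  pr_surj : ∀ v, ∃ q ∈ Q, pr q = v
  pr_eq_zero : ∀ q ∈ Q, (pr q = 0 ↔ (q : G) = 1 ∨ (q : G) = z)
  comm_iff : ∀ q ∈ Q, ∀ r ∈ Q, (q * r = r * q ↔ herm6 (pr q) (pr r) + herm6 (pr q) (pr r) ^ 2 = 0)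
  sq_iff : ∀ q ∈ Q, (q * q = 1 ↔ herm6 (pr q) (pr q) = 0)
  /-- The subgroup of index two. -/
  M : Subgroup (Subgroup.centralizer ({z} : Set G))
  le_M : Q ≤ M
  index_M : M.index = 2
  /-- The action of the subgroup of index two. -/
  act : M →* GS F4
  range_act : act.range = K b
  ker_act : ∀ m : M, act m = 1 ↔ (m : Subgroup.centralizer ({z} : Set G)) ∈ Q
  conj_pr : ∀ m : M, ∀ q ∈ Q, pr ((m : Subgroup.centralizer ({z} : Set G)) * q * (m : Subgroup.centralizer ({z} : Set G))⁻¹) =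
    mat (act m) *ᵥ pr q
  faithful : ∀ h, (∀ q ∈ Q, pr (h * q * h⁻¹) = pr q) → h ∈ Q
  semi : ∀ h, ∃ e : ℕ, (e = 1 ∨ e = 2) ∧
    (∀ q ∈ Q, ∀ r ∈ Q, ∀ a : F4, pr r = a • pr q → pr (h * r * h⁻¹) = a ^ e • pr (h * q * h⁻¹)) ∧
    ∀ q ∈ Q, ∀ r ∈ Q, herm6 (pr (h * q * h⁻¹)) (pr (h * r * h⁻¹)) = herm6 (pr q) (pr r) ^ e

/-- The representative of the orbit of length 378. -/
def smallRep : ℕ := 5

/-- The orbit of length 378 of nonzero isotropic vectors. -/
def InSmall (b : Fin 3) (v : V6) : Prop := ∃ g ∈ K b, mat g *ᵥ vdec om smallRep = v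

/-- The representative of the orbit of length 1701. -/
def bigRep : ℕ := 85

/-- The orbit of length 1701 of nonzero isotropic vectors. -/
def InBig (b : Fin 3) (v : V6) : Prop := ∃ g ∈ K b, mat g *ᵥ vdec om bigRep = v

end CfsgLib.Trans3.FiLarge
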