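import Cfsg.Agent.Lib.Trans3.FiLarge.Twist
import Cfsg.Agent.Lib.Trans3.FiLarge.SmallStab.TwoCore
import Cfsg.Agent.Lib.Trans3.FischerType.Local
import Cfsg.Agent.Lib.Trans3.FischerType.PairCore

/-!
The conjugates of `z` in `Q` other than `z` are the involutions on the long orbit.
-/

set_option autoImplicit false
set_option linter.unusedSectionVars false

namespace CfsgLib.Trans3.FiLarge

open Subgroup Matrix CfsgLib.Chev.U43U6 CfsgLib.PLocal.LargeExtra
open CfsgLib.Trans3.FischerType (qAmb conjIn not_abelian index_two_of_not_commute pack_of_type)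

variable {G : Type*} [Group G] [Finite G] {z : G} {Q : Subgroup (Subgroup.centralizer ({z} : Set G))}
  [Q.Normal]

theorem pr_eq_cases (c : Coord z Q) {q r : Subgroup.centralizer ({z} : Set G)} (hq : q ∈ Q) (hr : r ∈ Q)
    (e : c.pr q = c.pr r) : (q : G) = r ∨ (q : G) = z * r := by
  have h1 : c.pr 1 = 0 := (c.pr_eq_zero 1 (one_mem _)).2 (Or.inl rfl)
  have h0 : c.pr (q * r⁻¹) = 0 := by
    have h := c.pr_mul r hr _ (inv_mem hr)
    rw [mul_inv_cancel, h1] at h
    rw [c.pr_mul q hq _ (inv_mem hr), e]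
    exact h.symm
  rcases (c.pr_eq_zero _ (mul_mem hq (inv_mem hr))).1 h0 with h | h <;> push_cast at h
  · exact Or.inl (mul_inv_eq_one.1 h)
  · exact Or.inr (mul_inv_eq_iff_eq_mul.1 h)

theorem conjIn_card {s g : G} (hQ : Nat.card Q = 2 ^ 13)
    (P : Pair (qAmb Q) ((qAmb Q).map (MulAut.conj g).toMonoidHom) z s) :
    Nat.card (conjIn Q g) = 2 ^ 12 := by
  obtain ⟨q, hq, r, hr, hqz, hqx, hrx, hrz⟩ := P.exists_movers
  have hne : r * z ≠ z * r := fun e => by
    rw [mul_inv_eq_iff_eq_mul.2 e] at hrz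
    exact P.right.z_ne (mul_eq_left.1 hrz.symm)
  obtain ⟨T, hT⟩ : ∃ T, T = (qAmb Q).map (MulAut.conj g).toMonoidHom := ⟨_, rfl⟩
  rw [← hT] at P hr
  have hi := index_two_of_not_commute P.right (le_refl T) P.zmem hr hne
  have hT13 : Nat.card T = 2 ^ 13 := by
    rw [hT, card_map_of_injective (MulEquiv.injective _), card_map_of_injective (subtype_injective _), hQ]
  have h1 := Subgroup.relIndex_mul_relIndex ⊥ (T ⊓ centralizer ({z} : Set G)) T bot_le inf_le_left
  rw [hi, Subgroup.relIndex_bot_left, Subgroup.relIndex_bot_left, hT13] at h1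
  have h2 : Nat.card (conjIn Q g) = Nat.card ↥(T ⊓ centralizer ({z} : Set G)) := by
    rw [← card_map_of_injective (subtype_injective (centralizer ({z} : Set G))) (K := conjIn Q g),
      subgroupOf_map_subtype, hT]
  omega

/-- A conjugate of `z` is not at the standard small vector. -/
theorem not_small_rep (c : Coord z Q) (hP : Pack (qAmb Q) z) (hQ : Nat.card Q = 2 ^ 13)
    {s : Subgroup.centralizer ({z} : Set G)} (hs : s ∈ Q) (hpr : c.pr s = SmallStab.v0) {g : G}
    (hg : g * z * g⁻¹ = (s : G)) : False := by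
  have hne : (s : G) ≠ z := fun e => (SmallStab.pts_facts 0).2.2.2 0 (by
    have h0 : SmallStab.v0 = 0 := hpr ▸ (c.pr_eq_zero s hs).2 (Or.inr e)
    exact absurd (congrFun h0 0) (by decide +kernel))
  have P : Pair (qAmb Q) ((qAmb Q).map (MulAut.conj g).toMonoidHom) z (s : G) :=
    hg ▸ pair_of_conj hP (hg ▸ hne) (hg ▸ ⟨s, hs, rfl⟩)
  have hfix : ∀ e ∈ conjIn Q g, e * s * e⁻¹ = s := fun e he =>
    Subtype.ext (by push_cast; exact mul_inv_eq_iff_eq_mul.2 (P.right.comm_z he))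
  obtain ⟨K1, hK1⟩ : ∃ K1, K1 = (conjIn Q g).subgroupOf c.M := ⟨_, rfl⟩
  obtain ⟨I, hI⟩ : ∃ I, I = K1.map c.act := ⟨_, rfl⟩
  have hIle : I ≤ SmallStab.KS c.b := by
    rw [hI]
    rintro _ ⟨e, he, rfl⟩
    refine ⟨c.range_act ▸ ⟨e, rfl⟩, ?_⟩
    have := c.conj_pr e s hs
    rw [hfix e (hK1.le he), hpr] at this
    exact this.symm
  have hIn : (I.subgroupOf (SmallStab.KS c.b)).Normal := by
    refine ⟨?_⟩
    rintro ⟨n, hn0⟩ hn ⟨k, hk⟩
    rw [mem_subgroupOf] at hn ⊢
    rw [hI] at hn ⊢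
    obtain ⟨e, he, rfl⟩ := hn
    obtain ⟨m, rfl⟩ : k ∈ c.act.range := c.range_act ▸ hk.1
    have hp : c.pr ((m : Subgroup.centralizer ({z} : Set G)) * s *
        (m : Subgroup.centralizer ({z} : Set G))⁻¹) = c.pr s := by
      rw [c.conj_pr m s hs, hpr]; exact hk.2
    obtain ⟨m', hm', hms⟩ : ∃ m' : c.M, c.act m' = c.act m ∧
        ((m' : Subgroup.centralizer ({z} : Set G)) : G) * s = s * (m' : Subgroup.centralizer ({z} : Set G)) := by
      rcases pr_eq_cases c (Subgroup.Normal.conj_mem inferInstance s hs _) hs hp with e | e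
      · exact ⟨m, rfl, mul_inv_eq_iff_eq_mul.1 (by push_cast at e; exact e)⟩
      · obtain ⟨q, hq, r, -, hqz, hqx, -, -⟩ := P.exists_movers
        obtain ⟨q₀, hq₀, rfl⟩ := hq
        refine ⟨⟨q₀, c.le_M hq₀⟩ * m, by rw [map_mul, (c.ker_act ⟨q₀, c.le_M hq₀⟩).2 hq₀, one_mul],
          mul_inv_eq_iff_eq_mul.1 ?_⟩
        push_cast at e ⊢
        calc (q₀ : G) * _ * _ * ((q₀ : G) * _)⁻¹ = (q₀ : G) * (((m : Subgroup.centralizer ({z} : Set G)) : G) *
            s * ((m : Subgroup.centralizer ({z} : Set G)) : G)⁻¹) * (q₀ : G)⁻¹ := by group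
          _ = ((q₀ : G) * z * (q₀ : G)⁻¹) * ((q₀ : G) * s * (q₀ : G)⁻¹) := by rw [e]; group
          _ = (s : G) := by
            rw [show (q₀ : G) * z * (q₀ : G)⁻¹ = z from hqz,
              show (q₀ : G) * s * (q₀ : G)⁻¹ = z * s from hqx, ← mul_assoc, hP.z_mul_z, one_mul]
    refine ⟨m' * e * m'⁻¹, hK1.ge ?_, ?_⟩
    · show (((m' * e * m'⁻¹ : c.M) : Subgroup.centralizer ({z} : Set G)) : G) ∈
        (qAmb Q).map (MulAut.conj g).toMonoidHom
      push_cast
      exact P.conj_mem_right hms (hK1.le he)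
    · show c.act (m' * e * m'⁻¹) = c.act m * c.act e * (c.act m)⁻¹
      rw [map_mul, map_mul, map_inv, hm']
  have h2I : IsPGroup 2 I := by
    rw [hI, hK1]
    exact IsPGroup.map ((IsPGroup.of_card (n := 12) (conjIn_card hQ P)).comap_of_injective _
      (subtype_injective c.M)) _
  have hbot := SmallStab.eq_bot_of_normal_two c.b hIn (h2I.of_equiv (subgroupOfEquivOfLe hIle).symm)
  have hle : conjIn Q g ⊓ c.M ≤ Q := fun e he => (c.ker_act ⟨e, he.2⟩).1 (by
    have hmem : c.act ⟨e, he.2⟩ ∈ I := hI ▸ ⟨⟨e, he.2⟩, hK1.ge he.1, rfl⟩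
    have := (Subgroup.eq_bot_iff_forall _).1 hbot ⟨_, hIle hmem⟩ hmem
    exact congrArg Subtype.val this)
  have hi : (conjIn Q g ⊓ c.M).relIndex (conjIn Q g) ≤ 2 := by
    rw [inf_relIndex_left]
    haveI := Subgroup.normal_of_index_eq_two c.index_M
    exact Nat.le_of_dvd (by norm_num) (c.index_M ▸ Subgroup.relIndex_dvd_index_of_normal c.M (conjIn Q g))
  have h1 := Subgroup.relIndex_mul_relIndex ⊥ (conjIn Q g ⊓ c.M) (conjIn Q g) bot_le inf_le_left
  rw [Subgroup.relIndex_bot_left, Subgroup.relIndex_bot_left, conjIn_card hQ P] at h1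
  have hA : (conjIn Q g ⊓ c.M).map (centralizer ({z} : Set G)).subtype ≤ qAmb Q := Subgroup.map_mono hle
  refine not_abelian hP (by rw [card_map_of_injective (subtype_injective _), hQ]; norm_num) hA ?_
    fun a ha b hb => ?_
  · have h3 := Subgroup.relIndex_mul_relIndex ⊥ _ _ bot_le hA
    rw [Subgroup.relIndex_bot_left, Subgroup.relIndex_bot_left, card_map_of_injective (subtype_injective _),
      card_map_of_injective (subtype_injective _), hQ] at h3
    nlinarith
  · have hin : ∀ a ∈ (conjIn Q g ⊓ c.M).map (centralizer ({z} : Set G)).subtype,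
        a ∈ qAmb Q ⊓ (qAmb Q).map (MulAut.conj g).toMonoidHom := by
      rintro _ ⟨e, he, rfl⟩
      exact ⟨⟨e, hle he, rfl⟩, he.1⟩
    exact congrArg Subtype.val (P.elementary.1.is_comm.comm ⟨a, hin a ha⟩ ⟨b, hin b hb⟩)

/-- A conjugate of `z` in `Q` other than `z` lies on the long orbit. -/
theorem inBig_of_conj (hF : Cfsg.IsOfLargeFischerTypeAt z Q) (c : Coord z Q)
    {s : Subgroup.centralizer ({z} : Set G)} (hs : s ∈ Q) (hne : (s : G) ≠ z) (hconj : IsConj z (s : G)) :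
    InBig c.b (c.pr s) := by
  obtain ⟨hP, hQ⟩ := pack_of_type hF
  obtain ⟨g, hg⟩ := isConj_iff.1 hconj
  have hs1 : (s : G) ≠ 1 := fun e => by
    rw [e] at hg
    exact hP.z_ne (conj_eq_one_iff.1 hg)
  have hs2 : s * s = 1 := Subtype.ext (by
    push_cast
    rw [← hg, show g * z * g⁻¹ * (g * z * g⁻¹) = g * (z * z) * g⁻¹ by group, hP.z_mul_z]; group)
  refine (iso_cases c.b (fun e => ?_) ((c.sq_iff s hs).1 hs2)).resolve_left fun hsm => ?_
  · exact ((c.pr_eq_zero s hs).1 e).elim hs1 hne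
  · obtain ⟨k, hk, e⟩ := InSmall.trans hsm
      (show InSmall c.b SmallStab.v0 from ⟨1, one_mem _, one_mulVec _⟩)
    exact not_small_rep (c.twist k hk) hP hQ hs e hg

/-- The involutions of `Q` other than `z` that are conjugate to `z` are those on the long orbit. -/
theorem big_iff_conj (hF : Cfsg.IsOfLargeFischerTypeAt z Q) (c : Coord z Q)
    {s : Subgroup.centralizer ({z} : Set G)} (hs : s ∈ Q) (hne : (s : G) ≠ z) :
    InBig c.b (c.pr s) ↔ IsConj z (s : G) := by
  refine ⟨fun hb => ?_, inBig_of_conj hF c hs hne⟩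
  obtain ⟨hP, hQ⟩ := pack_of_type hF
  have hF' := hF
  obtain ⟨⟨-, -, -, -, g, ⟨hq, hqQ⟩, hgne⟩, -⟩ := hF
  have hconj : IsConj z (g * z * g⁻¹) := isConj_iff.2 ⟨g, rfl⟩
  obtain ⟨k, hk, e⟩ := InBig.trans (inBig_of_conj hF' c hqQ hgne hconj) hb
  obtain ⟨m, rfl⟩ : k ∈ c.act.range := c.range_act ▸ hk
  have hne' : g * z * g⁻¹ ≠ z := hgne
  have hmem : (m : Subgroup.centralizer ({z} : Set G)) * ⟨g * z * g⁻¹, hq⟩ *
      (m : Subgroup.centralizer ({z} : Set G))⁻¹ ∈ Q := Subgroup.Normal.conj_mem inferInstance _ hqQ _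
  have hpr := c.conj_pr m _ hqQ
  rw [e] at hpr
  have hc1 : IsConj z ((((m : Subgroup.centralizer ({z} : Set G)) * ⟨g * z * g⁻¹, hq⟩ *
      (m : Subgroup.centralizer ({z} : Set G))⁻¹ : Subgroup.centralizer ({z} : Set G))) : G) :=
    hconj.trans (isConj_iff.2 ⟨_, by push_cast; rfl⟩)
  rcases pr_eq_cases c hs hmem hpr.symm with e1 | e1
  · rwa [e1]
  · refine hc1.trans ?_
    rw [e1]
    set t := (m : Subgroup.centralizer ({z} : Set G)) * ⟨g * z * g⁻¹, hq⟩ *
      (m : Subgroup.centralizer ({z} : Set G))⁻¹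
    obtain ⟨a, ha⟩ := isConj_iff.1 hc1
    have htne : a * z * a⁻¹ ≠ z := by
      intro h0
      rw [ha] at h0
      refine hgne ?_
      have h1 : ((m : Subgroup.centralizer ({z} : Set G)) : G) * (g * z * g⁻¹) *
          ((m : Subgroup.centralizer ({z} : Set G)) : G)⁻¹ = z := h0
      have hz := mem_centralizer_singleton_iff.1 (m : Subgroup.centralizer ({z} : Set G)).2
      calc g * z * g⁻¹ = ((m : Subgroup.centralizer ({z} : Set G)) : G)⁻¹ *
          (((m : Subgroup.centralizer ({z} : Set G)) : G) * (g * z * g⁻¹) *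
            ((m : Subgroup.centralizer ({z} : Set G)) : G)⁻¹) *
            ((m : Subgroup.centralizer ({z} : Set G)) : G) := by group
        _ = ((m : Subgroup.centralizer ({z} : Set G)) : G)⁻¹ *
            (z * ((m : Subgroup.centralizer ({z} : Set G)) : G)) := by rw [h1]; group
        _ = z := by rw [← hz]; group
    obtain ⟨q, hq', r, -, -, hqx, -, -⟩ :=
      (pair_of_conj hP (g := a) htne (ha ▸ ⟨t, hmem, rfl⟩)).exists_movers
    exact isConj_iff.2 ⟨q, by rw [← ha]; exact hqx⟩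

end CfsgLib.Trans3.FiLarge
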