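import Cfsg.Agent.Lib.Trans3.FiLarge.Orbits
import Cfsg.Agent.Lib.Trans3.FiLarge.BigConj

/-!
Two involutions of `Q` on the same orbit are conjugate under the subgroup of index two.
-/

set_option autoImplicit false
set_option linter.unusedSectionVars false

namespace CfsgLib.Trans3.FiLarge

open Matrix CfsgLib.Chev.U43U6

theorem f4_trace_witness : ∀ x : F4, x ≠ 0 → ∃ a : F4, x * a ^ 2 + (x * a ^ 2) ^ 2 ≠ 0 := by decide +kernel

/-- The form is non-degenerate for the trace. -/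
theorem exists_trace_ne {u : V6} (hu : u ≠ 0) : ∃ w : V6, herm6 u w + herm6 u w ^ 2 ≠ 0 := by
  obtain ⟨i, hi⟩ := Function.ne_iff.1 hu
  obtain ⟨a, ha⟩ := f4_trace_witness (u i) hi
  refine ⟨Pi.single i a, ?_⟩
  have h : herm6 u (Pi.single i a) = u i * a ^ 2 := by
    show (∑ k, u k * (Pi.single i a : V6) k ^ 2) = _
    rw [Finset.sum_eq_single i (fun k _ hk => by simp [hk]) (by simp), Pi.single_eq_same]
  rwa [h]

variable {G : Type*} [Group G] [Finite G] {z : G} {Q : Subgroup (Subgroup.centralizer ({z} : Set G))}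
  [Q.Normal]

theorem pr_conj_Q (c : Coord z Q) {y r : Subgroup.centralizer ({z} : Set G)} (hy : y ∈ Q) (hr : r ∈ Q) :
    c.pr (y * r * y⁻¹) = c.pr r := by
  have h := c.conj_pr ⟨y, c.le_M hy⟩ r hr
  rwa [(c.ker_act ⟨y, c.le_M hy⟩).2 hy, show mat (1 : GS F4) = 1 from rfl, one_mulVec] at h

/-- Same orbit, same class. -/
theorem conj_of_class (c : Coord z Q) {q r : Subgroup.centralizer ({z} : Set G)} (hq : q ∈ Q) (hr : r ∈ Q)
    (hr0 : c.pr r ≠ 0) (h : ∃ g ∈ K c.b, mat g *ᵥ c.pr q = c.pr r) :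
    ∃ m ∈ c.M, m * q * m⁻¹ = r := by
  obtain ⟨g, hg, e⟩ := h
  obtain ⟨m, rfl⟩ := c.range_act ▸ hg
  have hmq : (m : Subgroup.centralizer ({z} : Set G)) * q * (m : Subgroup.centralizer ({z} : Set G))⁻¹ ∈ Q :=
    Subgroup.Normal.conj_mem inferInstance q hq _
  have hpr : c.pr ((m : Subgroup.centralizer ({z} : Set G)) * q * (m : Subgroup.centralizer ({z} : Set G))⁻¹) =
      c.pr r := by rw [c.conj_pr m q hq, e]
  rcases pr_eq_cases c hmq hr hpr with h1 | h1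
  · exact ⟨m, m.2, Subtype.ext h1⟩
  obtain ⟨w, hw⟩ := exists_trace_ne hr0
  obtain ⟨y, hy, rfl⟩ := c.pr_surj w
  have hyr : y * r * y⁻¹ ≠ r := fun he => hw ((c.comm_iff r hr y hy).1 (mul_inv_eq_iff_eq_mul.1 he).symm)
  have hy' : y * r * y⁻¹ ∈ Q := Subgroup.Normal.conj_mem inferInstance r hr _
  have hz : ((y * r * y⁻¹ : Subgroup.centralizer ({z} : Set G)) : G) = z * r :=
    (pr_eq_cases c hy' hr (pr_conj_Q c hy hr)).resolve_left fun he => hyr (Subtype.ext he)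
  refine ⟨y⁻¹ * m, mul_mem (inv_mem (c.le_M hy)) m.2, ?_⟩
  have e2 : (m : Subgroup.centralizer ({z} : Set G)) * q * (m : Subgroup.centralizer ({z} : Set G))⁻¹ =
      y * r * y⁻¹ := Subtype.ext (h1.trans hz.symm)
  calc y⁻¹ * m * q * (y⁻¹ * m)⁻¹ = y⁻¹ * ((m : Subgroup.centralizer ({z} : Set G)) * q *
        (m : Subgroup.centralizer ({z} : Set G))⁻¹) * y := by group
    _ = r := by rw [e2]; group

theorem pr_ne_zero (c : Coord z Q) {q : Subgroup.centralizer ({z} : Set G)} (hq : q ∈ Q)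
    (h2 : orderOf q = 2) (hne : (q : G) ≠ z) : c.pr q ≠ 0 := fun h => by
  rcases (c.pr_eq_zero q hq).1 h with h1 | h1
  · rw [show q = 1 from Subtype.ext h1, orderOf_one] at h2; omega
  · exact hne h1

theorem class_cases (c : Coord z Q) {q : Subgroup.centralizer ({z} : Set G)} (hq : q ∈ Q)
    (h2 : orderOf q = 2) (hne : (q : G) ≠ z) : InSmall c.b (c.pr q) ∨ InBig c.b (c.pr q) :=
  iso_cases c.b (pr_ne_zero c hq h2 hne) ((c.sq_iff q hq).1 (by rw [← pow_two, ← h2, pow_orderOf_eq_one]))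

theorem exists_invol (c : Coord z Q) {v : V6} (h : InSmall c.b v ∨ InBig c.b v) :
    ∃ q ∈ Q, c.pr q = v ∧ orderOf q = 2 ∧ (q : G) ≠ z := by
  obtain ⟨hv, hh⟩ := isotropic_of_orbit h
  obtain ⟨q, hq, rfl⟩ := c.pr_surj v
  have hne : q ≠ 1 := fun e => hv ((c.pr_eq_zero q hq).2 (Or.inl (by rw [e]; rfl)))
  refine ⟨q, hq, rfl, orderOf_eq_prime ?_ hne, fun e => hv ((c.pr_eq_zero q hq).2 (Or.inr e))⟩
  rw [pow_two]; exact (c.sq_iff q hq).2 hh

end CfsgLib.Trans3.FiLarge
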