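import Cfsg.Agent.Lib.Trans3.ExtraTwoOut
import Cfsg.Agent.Lib.Comp.FStar
import Cfsg.Prelude.Def_MonsterType

/-!
The action of the centraliser of `z` on `Q / ⟨z⟩` in an extraspecial centraliser setting of width six.
-/

set_option autoImplicit false
set_option linter.unusedSectionVars false

namespace CfsgLib.Trans3.FiLarge

open Matrix CfsgLib.Trans3.ExtraTwo
open Cfsg (IsExtraspecialCentralizerSetting)

variable {G : Type*} [Group G] [Finite G] {z : G} {Q : Subgroup (Subgroup.centralizer ({z} : Set G))}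
  [Q.Normal]

theorem exists_model (hs : IsExtraspecialCentralizerSetting z Q 6) :
    ∃ t : Fin 6 → Bool, Nonempty (↥Q ≃* ES 6 t) := by
  rcases iso_model hs.2.2.1 5 hs.2.2.2.1 with h | h
  exacts [⟨_, h⟩, ⟨_, h⟩]

variable {t : Fin 6 → Bool} (e : ↥Q ≃* ES 6 t)

/-- The vector of an element of `Q` (zero outside `Q`). -/
noncomputable def vC (h : Subgroup.centralizer ({z} : Set G)) : Sp 6 :=
  haveI := Classical.dec (h ∈ Q)
  if hm : h ∈ Q then (e ⟨h, hm⟩).v else 0

theorem vC_mem {h : Subgroup.centralizer ({z} : Set G)} (hm : h ∈ Q) : vC e h = (e ⟨h, hm⟩).v := by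
  rw [vC, dif_pos hm]

theorem vC_mul {q r : Subgroup.centralizer ({z} : Set G)} (hq : q ∈ Q) (hr : r ∈ Q) :
    vC e (q * r) = vC e q + vC e r := by
  rw [vC_mem e hq, vC_mem e hr, vC_mem e (mul_mem hq hr),
    show (⟨q * r, mul_mem hq hr⟩ : ↥Q) = ⟨q, hq⟩ * ⟨r, hr⟩ from rfl, map_mul, mul_v]

theorem vC_surj (v : Sp 6) : ∃ q ∈ Q, vC e q = v :=
  ⟨e.symm ⟨v, 0⟩, (e.symm ⟨v, 0⟩).2, by rw [vC_mem e (e.symm ⟨v, 0⟩).2, Subtype.coe_eta, e.apply_symm_apply]⟩

theorem vC_comm {q r : Subgroup.centralizer ({z} : Set G)} (hq : q ∈ Q) (hr : r ∈ Q) :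
    q * r = r * q ↔ alt (vC e q) (vC e r) = 0 := by
  rw [vC_mem e hq, vC_mem e hr, ← comm_iff, ← map_mul, ← map_mul, e.injective.eq_iff]
  exact ⟨fun h => Subtype.ext h, fun h => congrArg Subtype.val h⟩

theorem vC_sq {q : Subgroup.centralizer ({z} : Set G)} (hq : q ∈ Q) :
    q * q = 1 ↔ beta t (vC e q) (vC e q) = 0 := by
  rw [vC_mem e hq]
  constructor
  · intro h
    have h' : e ⟨q, hq⟩ * e ⟨q, hq⟩ = 1 := by
      rw [← map_mul, ← map_one e]; exact congrArg e (Subtype.ext h)
    rw [sq_eq] at h'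
    exact congrArg ES.c h'
  · intro h
    have h' : (⟨q, hq⟩ : ↥Q) * ⟨q, hq⟩ = 1 := e.injective (by rw [map_mul, sq_eq, h, map_one]; rfl)
    exact congrArg Subtype.val h'

/-- `z` as an element of its centraliser. -/
def zC (z : G) : Subgroup.centralizer ({z} : Set G) := ⟨z, Subgroup.mem_centralizer_singleton_iff.2 rfl⟩

theorem zC_central (h : Subgroup.centralizer ({z} : Set G)) : zC z * h = h * zC z :=
  Subtype.ext (Subgroup.mem_centralizer_singleton_iff.1 h.2).symm

theorem cent_le (hs : IsExtraspecialCentralizerSetting z Q 6) :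
    Subgroup.centralizer (Q : Set (Subgroup.centralizer ({z} : Set G))) ≤ Q := by
  have h := CfsgLib.Comp.centralizer_generalizedFitting_le (Subgroup.centralizer ({z} : Set G))
  rwa [hs.2.1] at h

theorem zC_mem (hs : IsExtraspecialCentralizerSetting z Q 6) : zC z ∈ Q :=
  cent_le hs (Subgroup.mem_centralizer_iff.2 fun q _ => (zC_central q).symm)

theorem map_zC (hs : IsExtraspecialCentralizerSetting z Q 6) : e ⟨zC z, zC_mem hs⟩ = cen t 1 := by
  have hv : (e ⟨zC z, zC_mem hs⟩).v = 0 := (mem_center_iff t _).1 <| Subgroup.mem_center_iff.2 fun y => by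
    obtain ⟨x, rfl⟩ := e.surjective y
    rw [← map_mul, ← map_mul]
    exact congrArg e (Subtype.ext (zC_central (x : Subgroup.centralizer ({z} : Set G))).symm)
  rcases z2_cases (e ⟨zC z, zC_mem hs⟩).c with h | h
  · have h1 : (⟨zC z, zC_mem hs⟩ : ↥Q) = 1 := e.injective (by rw [map_one]; exact ES.ext hv h)
    have h2 : z = 1 := congrArg (fun x : ↥Q => ((x : Subgroup.centralizer ({z} : Set G)) : G)) h1
    have h3 := hs.1
    rw [h2, orderOf_one] at h3
    omega
  · exact ES.ext hv h

theorem vC_eq_zero (hs : IsExtraspecialCentralizerSetting z Q 6) {q : Subgroup.centralizer ({z} : Set G)}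
    (hq : q ∈ Q) : vC e q = 0 ↔ (q : G) = 1 ∨ (q : G) = z := by
  constructor
  · intro h
    rw [vC_mem e hq] at h
    rcases z2_cases (e ⟨q, hq⟩).c with hc | hc
    · left
      have h1 : (⟨q, hq⟩ : ↥Q) = 1 := e.injective (by rw [map_one]; exact ES.ext h hc)
      exact congrArg (fun x : ↥Q => ((x : Subgroup.centralizer ({z} : Set G)) : G)) h1
    · right
      have h1 : (⟨q, hq⟩ : ↥Q) = ⟨zC z, zC_mem hs⟩ := e.injective (by rw [map_zC e hs]; exact ES.ext h hc)
      exact congrArg (fun x : ↥Q => ((x : Subgroup.centralizer ({z} : Set G)) : G)) h1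
  · rintro (h | h)
    · rw [show q = 1 from Subtype.ext h, vC_mem e (one_mem Q),
        show (⟨1, one_mem Q⟩ : ↥Q) = 1 from rfl, map_one]
      rfl
    · rw [show q = zC z from Subtype.ext h, vC_mem e (zC_mem hs), map_zC e hs]
      rfl

/-- Conjugation read on the model. -/
noncomputable def conjAut : Subgroup.centralizer ({z} : Set G) →* MulAut (ES 6 t) :=
  MonoidHom.mk' (fun h => e.symm.trans ((MulAut.conjNormal h).trans e)) fun a b => MulEquiv.ext fun x => by simp

theorem conjAut_apply (h : Subgroup.centralizer ({z} : Set G)) (q : ↥Q) :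
    conjAut e h (e q) = e (MulAut.conjNormal h q) := by
  show e (MulAut.conjNormal h (e.symm (e q))) = _
  rw [e.symm_apply_apply]

/-- The action on `Q / ⟨z⟩`. -/
noncomputable def rho : Subgroup.centralizer ({z} : Set G) →* AddMonoid.End (Sp 6) where
  toFun h := (vLin t (conjAut e h)).toAddMonoidHom
  map_one' := by rw [map_one, vLin_one]; rfl
  map_mul' a b := by rw [map_mul, vLin_mul]; rfl

theorem rho_vC (h : Subgroup.centralizer ({z} : Set G)) {q : Subgroup.centralizer ({z} : Set G)} (hq : q ∈ Q) :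
    rho e h (vC e q) = vC e (h * q * h⁻¹) := by
  have hc : h * q * h⁻¹ ∈ Q := Subgroup.Normal.conj_mem inferInstance q hq h
  show (conjAut e h (lift t (vC e q))).v = _
  rw [vC_mem e hq, ← v_map, conjAut_apply, vC_mem e hc]
  exact congrArg (fun x => (e x).v) (Subtype.ext rfl)

theorem rho_sq (h : Subgroup.centralizer ({z} : Set G)) (v : Sp 6) :
    beta t (rho e h v) (rho e h v) = beta t v v :=
  q_vLin t (conjAut e h) v

theorem rho_alt (h : Subgroup.centralizer ({z} : Set G)) (u v : Sp 6) :
    alt (rho e h u) (rho e h v) = alt u v := by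
  have key : ∀ a b : Sp 6, alt a b = beta t (a + b) (a + b) + beta t a a + beta t b b := fun a b => by
    rw [← beta_symm t a b, beta_add_left, beta_add_right, beta_add_right]
    generalize beta t a a = p; generalize beta t a b = q; generalize beta t b a = r; generalize beta t b b = s
    revert p q r s; decide
  rw [key, key, ← map_add, rho_sq, rho_sq, rho_sq]

theorem rho_eq_one_iff (hs : IsExtraspecialCentralizerSetting z Q 6) (h : Subgroup.centralizer ({z} : Set G)) :
    rho e h = 1 ↔ h ∈ Q := by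
  constructor
  · intro h1
    have hv : vLin t (conjAut e h) = LinearMap.id := LinearMap.ext fun v => DFunLike.congr_fun h1 v
    let L := coordPlus 6
    have hmem : conjAut e h ∈ Cfsg.Inn (ES 6 t) := by
      rw [← psi_ker t L (fun u => beta t (L.symm u) (L.symm u)) (fun v => by rw [L.symm_apply_apply]),
        MonoidHom.mem_ker]
      refine Subtype.ext (Units.ext ?_)
      show LinearMap.toMatrix' _ = (1 : Matrix (Fin 6 ⊕ Fin 6) (Fin 6 ⊕ Fin 6) (ZMod 2))
      rw [hv, ← LinearMap.toMatrix'_id]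
      congr 1
      exact LinearMap.ext fun x => L.apply_symm_apply x
    obtain ⟨y, hy⟩ := hmem
    obtain ⟨q, rfl⟩ := e.surjective y
    have hcomm : (q : Subgroup.centralizer ({z} : Set G))⁻¹ * h ∈
        Subgroup.centralizer (Q : Set (Subgroup.centralizer ({z} : Set G))) := by
      refine Subgroup.mem_centralizer_iff.2 fun r hr => ?_
      have hr' := MulEquiv.congr_fun hy (e ⟨r, hr⟩)
      rw [conjAut_apply, MulAut.conj_apply, ← map_inv, ← map_mul, ← map_mul, e.injective.eq_iff] at hr'
      have hr'' : (q : Subgroup.centralizer ({z} : Set G)) * r * (q : Subgroup.centralizer ({z} : Set G))⁻¹ =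
          h * r * h⁻¹ := by
        have := congrArg Subtype.val hr'
        simpa [MulAut.conjNormal_apply] using this
      rw [eq_mul_inv_iff_mul_eq] at hr''
      calc r * ((q : Subgroup.centralizer ({z} : Set G))⁻¹ * h)
          = (q : Subgroup.centralizer ({z} : Set G))⁻¹ *
              ((q : Subgroup.centralizer ({z} : Set G)) * r * (q : Subgroup.centralizer ({z} : Set G))⁻¹ * h) := by
            group
        _ = _ := by rw [hr'', mul_assoc]
    have := mul_mem q.2 (cent_le hs hcomm)
    rwa [mul_inv_cancel_left] at this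
  · intro hm
    refine AddMonoidHom.ext fun v => ?_
    show rho e h v = v
    obtain ⟨r, hr, rfl⟩ := vC_surj e v
    rw [rho_vC e h hr, vC_mul e (mul_mem hm hr) (inv_mem hm), vC_mul e hm hr]
    have hz : vC e h + vC e h⁻¹ = 0 := by
      rw [← vC_mul e hm (inv_mem hm), mul_inv_cancel, (vC_eq_zero e hs (one_mem Q)).2 (Or.inl rfl)]
    rw [add_right_comm, hz, zero_add]

end CfsgLib.Trans3.FiLarge
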