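import Cfsg.Agent.Lib.Trans3.FiLarge.Coord
import Cfsg.Agent.Lib.Trans3.ExtraTwo
import Cfsg.Agent.Lib.Geom.HermNorm

/-!
A fixed-point-free isometry of order three turns a twelve-dimensional quadratic space over two elements into a
six-dimensional unitary space over four elements.
-/

set_option autoImplicit false
set_option maxRecDepth 100000

namespace CfsgLib.Trans3.FiLarge

open CfsgLib.Trans3.ExtraTwo

/-- The high bit. -/
def hiB (a : F4) : ZMod 2 := if a.hi then 1 else 0

/-- The low bit. -/
def loB (a : F4) : ZMod 2 := if a.lo then 1 else 0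

/-- The element with the two coordinates. -/
def pack (a b : ZMod 2) : F4 := (if a = 1 then 1 else 0) + (if b = 1 then om else 0)

theorem f4_cases : ∀ a : F4, a = 0 ∨ a = 1 ∨ a = om ∨ a = 1 + om := by decide +kernel

theorem om_sq : om * om = 1 + om := by decide +kernel

section Module

variable {V : Type*} [AddCommGroup V]

/-- The scalar `a` as an endomorphism, `J` playing the part of `ω`. -/
def smulJ (J : AddMonoid.End V) (a : F4) : AddMonoid.End V :=
  (if a.lo then 1 else 0) + (if a.hi then J else 0)

variable {J : AddMonoid.End V} (h2 : ∀ v : V, v + v = 0) (hJ : J * J = 1 + J)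

theorem smulJ_zero (J : AddMonoid.End V) : smulJ J 0 = 0 := by simp [smulJ, FQ4bits0.1, FQ4bits0.2]
where
  /-- The bits of zero. -/
  FQ4bits0 : (0 : F4).lo = false ∧ (0 : F4).hi = false := by decide +kernel

theorem smulJ_basic (J : AddMonoid.End V) :
    smulJ J 1 = 1 ∧ smulJ J om = J ∧ smulJ J (1 + om) = 1 + J := by
  refine ⟨?_, ?_, ?_⟩
  · simp [smulJ, show (1 : F4).lo = true by decide +kernel, show (1 : F4).hi = false by decide +kernel]
  · simp [smulJ, show om.lo = false by decide +kernel, show om.hi = true by decide +kernel]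
  · simp [smulJ, show (1 + om).lo = true by decide +kernel, show (1 + om).hi = true by decide +kernel]

include h2 in
theorem end_add_self (f : AddMonoid.End V) : f + f = 0 := AddMonoidHom.ext fun v => h2 (f v)

include h2 in
theorem smulJ_add (a b : F4) : smulJ J (a + b) = smulJ J a + smulJ J b := by
  have d := end_add_self h2 (f := (1 : AddMonoid.End V))
  have d' := end_add_self h2 (f := J)
  have key : ∀ x y : F4, (x + y).lo = xor x.lo y.lo ∧ (x + y).hi = xor x.hi y.hi := by decide +kernel
  rw [smulJ, smulJ, smulJ, (key a b).1, (key a b).2]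
  have e : ∀ x y : AddMonoid.End V, x + (x + y) = y := fun x y => by
    rw [← add_assoc, end_add_self h2, zero_add]
  cases a.lo <;> cases b.lo <;> cases a.hi <;> cases b.hi <;>
    simp [d, d', e, add_comm, add_left_comm, add_assoc]

include h2 hJ in
theorem smulJ_mul (a b : F4) : smulJ J (a * b) = smulJ J a * smulJ J b := by
  obtain ⟨e1, e2, e3⟩ := smulJ_basic J
  have d := end_add_self h2 (f := J)
  have d1 := end_add_self h2 (f := (1 : AddMonoid.End V))
  have hJ1 : J * (1 + J) = 1 := by rw [mul_add, mul_one, hJ, add_left_comm, d, add_zero]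
  have h1J : (1 + J) * J = 1 := by rw [add_mul, one_mul, hJ, add_left_comm, d, add_zero]
  have h11 : (1 + J) * (1 + J) = J := by
    rw [add_mul, one_mul, hJ1, add_comm 1 J, add_assoc, d1, add_zero]
  rcases f4_cases a with rfl | rfl | rfl | rfl <;> rcases f4_cases b with rfl | rfl | rfl | rfl <;>
    simp only [zero_mul, mul_zero, one_mul, mul_one, smulJ_zero, e1, e2, e3,
      show om * om = 1 + om from om_sq, show om * (1 + om) = 1 by decide +kernel,
      show (1 + om) * om = 1 by decide +kernel, show (1 + om) * (1 + om) = om by decide +kernel,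
      hJ, hJ1, h1J, h11]

/-- The ring map. -/
def jHom (h2 : ∀ v : V, v + v = 0) (hJ : J * J = 1 + J) : F4 →+* AddMonoid.End V where
  toFun := smulJ J
  map_one' := (smulJ_basic J).1
  map_mul' := smulJ_mul h2 hJ
  map_zero' := smulJ_zero J
  map_add' := smulJ_add h2

/-- The vector space over four elements. -/
@[reducible] def fourModule (h2 : ∀ v : V, v + v = 0) (hJ : J * J = 1 + J) : Module F4 V :=
  Module.compHom V (jHom h2 hJ)

end Module

/-- The Frobenius of four elements. -/
def sqHom : F4 →+* F4 where
  toFun a := a * a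
  map_one' := by decide +kernel
  map_mul' := by decide +kernel
  map_zero' := by decide +kernel
  map_add' := by decide +kernel

theorem pack_spec : ∀ a b : ZMod 2,
    om * pack a b = pack b (a + b) ∧ pack a b * pack a b = pack (a + b) b ∧
      (pack a b = 0 ↔ a = 0 ∧ b = 0) ∧ (pack a b + pack a b ^ 2 = 0 ↔ b = 0) ∧ (pack a 0 = 0 ↔ a = 0) := by
  decide +kernel

theorem pack_add : ∀ a b c d : ZMod 2, pack (a + c) (b + d) = pack a b + pack c d := by decide +kernel

variable {t : Fin 6 → Bool}

theorem alt_eq_q (u v : Sp 6) :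
    alt u v = beta t (u + v) (u + v) + beta t u u + beta t v v := by
  rw [← beta_symm t u v, beta_add_left, beta_add_right, beta_add_right]
  generalize beta t u u = p; generalize beta t u v = q; generalize beta t v u = r; generalize beta t v v = s
  revert p q r s; decide

theorem alt_add_left (u u' w : Sp 6) : alt (u + u') w = alt u w + alt u' w := by
  simp only [alt, Pi.add_apply, Prod.fst_add, Prod.snd_add, ← Finset.sum_add_distrib]
  exact Finset.sum_congr rfl fun i _ => by ring

theorem alt_comm (u w : Sp 6) : alt u w = alt w u := by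
  simp only [alt]
  exact Finset.sum_congr rfl fun i _ => by ring

theorem alt_self (u : Sp 6) : alt u u = 0 := by
  simp only [alt]
  refine Finset.sum_eq_zero fun i _ => ?_
  exact (by decide : ∀ x y : ZMod 2, x * y + y * x = 0) _ _

variable (J : AddMonoid.End (Sp 6))

/-- The hermitian form. -/
def hf (u v : Sp 6) : F4 := pack (alt (J u) v + alt u v) (alt u v)

variable (hJ : J * J = 1 + J) (hiso : ∀ v, beta t (J v) (J v) = beta t v v)

include hiso in
theorem alt_J (u v : Sp 6) : alt (J u) (J v) = alt u v := by
  rw [alt_eq_q (t := t), alt_eq_q (t := t) u v, ← map_add, hiso, hiso, hiso]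

include hJ in
theorem J_sq (u : Sp 6) : J (J u) = u + J u := DFunLike.congr_fun hJ u

include hJ hiso in
theorem alt_J_swap (u v : Sp 6) : alt (J v) u = alt (J u) v + alt u v := by
  have h := alt_J J hiso (J u) v
  rw [J_sq J hJ, alt_add_left] at h
  have h2 := alt_J J hiso u v
  rw [alt_comm u (J v), h2] at h
  rw [← h]
  generalize alt (J u) (J v) = a; generalize alt (J v) u = b; generalize alt u v = c
  revert a b c; decide

include hJ hiso in
theorem hf_self (v : Sp 6) : hf J v v = pack (beta t v v) 0 := by
  rw [hf, alt_self, add_zero, alt_eq_q (t := t), hiso]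
  congr 1
  have e : J v + v = J (J v) := by rw [J_sq J hJ]; exact add_comm _ _
  rw [e, hiso, hiso]
  generalize beta t v v = a
  revert a; decide

include hJ hiso in
/-- Unitary coordinates. -/
theorem exists_coords : ∃ Φ : Sp 6 ≃+ V6, (∀ v, Φ (J v) = om • Φ v) ∧
    ∀ u v, herm6 (Φ u) (Φ v) = hf J u v := by
  have h2 : ∀ v : Sp 6, v + v = 0 := sp_add_self
  letI : Module F4 (Sp 6) := fourModule h2 hJ
  have hsm : ∀ (a : F4) (v : Sp 6), a • v = smulJ J a v := fun _ _ => rfl
  have hom : ∀ v : Sp 6, om • v = J v := fun v => by rw [hsm, (smulJ_basic J).2.1]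
  have hadd : ∀ u u' v, hf J (u + u') v = hf J u v + hf J u' v := fun u u' v => by
    rw [hf, hf, hf, map_add, alt_add_left, alt_add_left, ← pack_add]
    congr 1; abel
  have hJl : ∀ u v, hf J (J u) v = om * hf J u v := fun u v => by
    rw [hf, hf, (pack_spec _ _).1, J_sq J hJ, alt_add_left]
    congr 1
    · generalize alt (J u) v = a; generalize alt u v = c; revert a c; decide
    · generalize alt (J u) v = a; generalize alt u v = c; revert a c; decide
  have hsymm : ∀ u v, sqHom (hf J u v) = hf J v u := fun u v => by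
    show hf J u v * hf J u v = _
    rw [hf, (pack_spec _ _).2.1, hf, alt_J_swap J hJ hiso u v, alt_comm v u]
  have hzero : ∀ v, hf J 0 v = 0 := fun v => by
    have h := hadd 0 0 v
    rw [add_zero] at h
    exact left_eq_add.1 h
  have hsmul : ∀ (a : F4) u v, hf J (a • u) v = a * hf J u v := fun a u v => by
    rcases f4_cases a with rfl | rfl | rfl | rfl
    · rw [zero_smul, zero_mul, hzero]
    · rw [one_smul, one_mul]
    · rw [hom, hJl]
    · rw [add_smul, one_smul, hom, hadd, hJl, add_mul, one_mul]
  have hadd' : ∀ u v v', hf J u (v + v') = hf J u v + hf J u v' := fun u v v' => by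
    rw [← hsymm (v + v') u, hadd, map_add, hsymm, hsymm]
  have hsmul' : ∀ (a : F4) u v, hf J u (a • v) = sqHom a * hf J u v := fun a u v => by
    rw [← hsymm (a • v) u, hsmul, map_mul, hsymm]
  let B : Sp 6 →ₛₗ[sqHom] Sp 6 →ₗ[F4] F4 :=
    LinearMap.mk₂'ₛₗ sqHom (RingHom.id F4) (fun u v => hf J v u)
      (fun u u' v => hadd' v u u') (fun a u v => hsmul' a v u)
      (fun u v v' => hadd v v' u) (fun a u v => hsmul a v u)
  have hB : ∀ u v, B u v = hf J v u := fun _ _ => rfl
  have hnd : ∀ x, (∀ y, B x y = 0) → x = 0 := by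
    intro x hx
    by_contra hne
    obtain ⟨w, hw⟩ := alt_nondeg hne
    have h := hx w
    rw [hB] at h
    have h' := ((pack_spec _ _).2.2.1.1 h).2
    rw [alt_comm] at hw
    rw [hw] at h'
    exact one_ne_zero h'
  haveI : FiniteDimensional F4 (Sp 6) := Module.Finite.of_finite
  have hrank : Module.finrank F4 (Sp 6) = 6 := by
    have h := Module.card_eq_pow_finrank (K := F4) (V := Sp 6)
    rw [card_F4, show Fintype.card (Sp 6) = 4 ^ 6 by
      rw [Fintype.card_fun, Fintype.card_prod, ZMod.card, Fintype.card_fin]] at h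
    exact (Nat.pow_right_injective (le_refl 2 |>.trans (by norm_num)) h).symm
  obtain ⟨b, hb⟩ := CfsgLib.Geom.exists_orthonormal_basis (σ := sqHom)
    (fun h => absurd (RingHom.congr_fun h om) (by decide +kernel))
    (by decide +kernel) 6 B (fun u v => by rw [hB, hB, hsymm]) hnd hrank
  refine ⟨b.equivFun.toAddEquiv, fun v => ?_, fun u v => ?_⟩
  · rw [← hom]
    exact map_smul b.equivFun om v
  · have hBexp : B v u = ∑ i, (b.equivFun v i) ^ 2 * b.equivFun u i := by
      conv_lhs => rw [← b.sum_equivFun v, ← b.sum_equivFun u]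
      simp only [map_sum, LinearMap.sum_apply, map_smul, LinearMap.map_smulₛₗ, LinearMap.smul_apply, hb,
        smul_eq_mul, mul_ite, mul_one, mul_zero, Finset.sum_ite_eq', Finset.mem_univ, if_true]
      exact Finset.sum_congr rfl fun i _ => by rw [pow_two]; first | rfl | exact mul_comm _ _
    show Cfsg.hermForm 6 F4 2 (b.equivFun u) (b.equivFun v) = _
    rw [← hB, hBexp, Cfsg.hermForm]
    exact Finset.sum_congr rfl fun i _ => mul_comm _ _

end CfsgLib.Trans3.FiLarge
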