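import Cfsg.Agent.Lib.Chev.U43InU6.Main

/-!
The unitary group in dimension four over nine elements moves no elementary abelian 2-group of order below `4 ^ 10`:
its abelian subgroup of order 81 would have ten independent hyperplane summands.
-/

set_option autoImplicit false
set_option maxRecDepth 100000
set_option linter.unusedSectionVars false

namespace CfsgLib.Trans3.FiLarge.Hyper

open CfsgLib.KnownA.PermCert (permOf prodW eqW eqW_iff valid)
open CfsgLib.KnownA.U4ThreeSchur (GP gensH genH_le)
open CfsgLib.Chev.U43U6 (gensA gensA_valid gensH_valid Ab Ab_le_Nb Nb_le_GP A_rel)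

/-- A digit. -/
def dig (x k : ℕ) : ℕ := x / 3 ^ k % 3

/-- The code of four digits. -/
def enc (d : ℕ → ℕ) : Fin 81 :=
  ⟨d 0 % 3 + 3 * (d 1 % 3) + 9 * (d 2 % 3) + 27 * (d 3 % 3), by omega⟩

/-- The sum. -/
def add (x y : Fin 81) : Fin 81 := enc fun k => dig x k + dig y k

/-- The value of a functional. -/
def dot (f x : Fin 81) : ℕ :=
  (dig f 0 * dig x 0 + dig f 1 * dig x 1 + dig f 2 * dig x 2 + dig f 3 * dig x 3) % 3

/-- The conjugation of the basis by the two stabiliser generators. -/
def cMat : Fin 2 → List (List ℕ) :=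
  ![[[0, 1, 0, 0], [0, 0, 1, 0], [1, 0, 1, 2], [0, 2, 0, 1]],
    [[1, 0, 0, 0], [0, 0, 0, 1], [1, 1, 2, 1], [0, 1, 0, 0]]]

/-- An entry. -/
def ent (b : Fin 2) (j k : ℕ) : ℕ := ((cMat b).getD j []).getD k 0

/-- The image of a vector. -/
def mapM (b : Fin 2) (x : Fin 81) : Fin 81 :=
  enc fun k => dig x 0 * ent b 0 k + dig x 1 * ent b 1 k + dig x 2 * ent b 2 k + dig x 3 * ent b 3 k

/-- The pullback of a functional. -/
def pull (b : Fin 2) (f : Fin 81) : Fin 81 :=
  enc fun j => dig f 0 * ent b j 0 + dig f 1 * ent b j 1 + dig f 2 * ent b j 2 + dig f 3 * ent b j 3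

/-- A functional with the same kernel, normalised. -/
def norm (f : Fin 81) : Fin 81 :=
  let g := enc fun k => 2 * dig f k
  if f ≤ g then f else g

/-- The normalised functionals. -/
def reps : Finset (Fin 81) := Finset.univ.filter fun f => f ≠ 0 ∧ norm f = f

/-- One saturation step. -/
def step (L : List (Fin 81)) : List (Fin 81) :=
  (L ++ L.map (fun f => norm (pull 0 f)) ++ L.map (fun f => norm (pull 1 f))).eraseDups

/-- Saturation. -/
def sat : ℕ → Fin 81 → List (Fin 81)
  | 0, f => [f]
  | n + 1, f => step (sat n f)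

theorem sat_big : ∀ f ∈ reps, 10 ≤ (sat 6 f).length ∧ (sat 6 f).Nodup ∧ ∀ g ∈ sat 6 f, g ∈ reps := by
  decide +kernel

theorem sep : ∀ f ∈ reps, ∀ g ∈ reps, f ≠ g → ∃ y : Fin 81, dot g y = 0 ∧ dot f y = 1 := by decide +kernel

theorem reps_ne : ∀ f ∈ reps, f ≠ 0 := by decide +kernel

theorem norm_mem : ∀ f : Fin 81, f ≠ 0 → norm f ∈ reps ∧ ∀ x, (dot (norm f) x = 0 ↔ dot f x = 0) := by
  decide +kernel

theorem pull_facts : ∀ b : Fin 2, ∀ f : Fin 81, (f ≠ 0 → pull b f ≠ 0) ∧ ∀ x, dot (pull b f) x = dot f (mapM b x) := by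
  decide +kernel

theorem mapM_injective : ∀ b : Fin 2, ∀ x y, mapM b x = mapM b y → x = y := by decide +kernel

theorem mem_sat {S : Fin 81 → Prop} (hS : ∀ b f, S f → S (norm (pull b f))) : ∀ n {f}, S f → ∀ g ∈ sat n f, S g := by
  intro n
  induction n with
  | zero =>
    intro f hf g hg
    rw [sat, List.mem_singleton] at hg
    exact hg ▸ hf
  | succ n ih =>
    intro f hf g hg
    rw [sat, step, List.mem_eraseDups, List.mem_append, List.mem_append, List.mem_map, List.mem_map] at hg
    rcases hg with (h | ⟨a, ha, rfl⟩) | ⟨a, ha, rfl⟩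
    exacts [ih hf g h, hS 0 _ (ih hf a ha), hS 1 _ (ih hf a ha)]

theorem dig_add : ∀ x y : Fin 81, ∀ k < 4, dig (add x y : Fin 81) k = (dig x k + dig y k) % 3 := by decide +kernel

variable {R : Type*} [Ring R] (A : Fin 4 → R)

/-- The element of a code. -/
def E (x : Fin 81) : R :=
  A 0 ^ dig x 0 * A 1 ^ dig x 1 * A 2 ^ dig x 2 * A 3 ^ dig x 3

/-- The sum over a hyperplane. -/
def P (f : Fin 81) : R := ∑ x ∈ Finset.univ.filter (fun x => dot f x = 0), E A x

/-- The sum over everything. -/
def PA : R := ∑ x, E A x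

/-- The projection of a hyperplane. -/
def proj (f : Fin 81) : R := P A f + PA A

variable (hcube : ∀ i, A i ^ 3 = 1) (hcomm : ∀ i j, Commute (A i) (A j)) (h2 : ∀ r : R, r + r = 0)

theorem E_zero : E A 0 = 1 := by simp [E, dig]

include hcube hcomm in
theorem E_add (x y : Fin 81) : E A (add x y) = E A x * E A y := by
  have hd : ∀ k < 4, dig (add x y : Fin 81) k = (dig x k + dig y k) % 3 := dig_add x y
  have hp : ∀ i k : ℕ, ∀ j : Fin 4, A j ^ ((i + k) % 3) = A j ^ i * A j ^ k := fun i k j => by
    rw [← pow_eq_pow_mod _ (hcube j), pow_add]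
  have c : ∀ i j (a b : ℕ), Commute (A i ^ a) (A j ^ b) := fun i j a b => (hcomm i j).pow_pow a b
  simp only [E, hd 0 (by norm_num), hd 1 (by norm_num), hd 2 (by norm_num), hd 3 (by norm_num), hp]
  rw [(show Commute (A 3 ^ dig x 3) (A 0 ^ dig y 0 * A 1 ^ dig y 1 * A 2 ^ dig y 2) from
      ((c 3 0 _ _).mul_right (c 3 1 _ _)).mul_right (c 3 2 _ _)).mul_mul_mul_comm,
    (show Commute (A 2 ^ dig x 2) (A 0 ^ dig y 0 * A 1 ^ dig y 1) from
      (c 2 0 _ _).mul_right (c 2 1 _ _)).mul_mul_mul_comm,
    (c 1 0 (dig x 1) (dig y 0)).mul_mul_mul_comm]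

/-- The coset sum. -/
def coset (f : Fin 81) (c : ℕ) : R := ∑ x ∈ Finset.univ.filter (fun x => dot f x = c), E A x

theorem add_neg : ∀ y x : Fin 81, add (enc fun k => 2 * dig y k) (add y x) = x := by decide +kernel

theorem dot_lin (p q r s a b c d a' b' c' d' : ℕ) :
    (p * ((a + a') % 3) + q * ((b + b') % 3) + r * ((c + c') % 3) + s * ((d + d') % 3)) % 3 =
      ((p * a + q * b + r * c + s * d) % 3 + (p * a' + q * b' + r * c' + s * d') % 3) % 3 := by
  rw [← Nat.add_mod]
  have e : ∀ u v : ℕ, u * (v % 3) ≡ u * v [MOD 3] := fun u v => (Nat.mod_modEq v 3).mul_left u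
  refine ((((e _ _).add (e _ _)).add (e _ _)).add (e _ _)).trans ?_
  show _ % 3 = _ % 3
  congr 1
  ring

theorem add_facts (y : Fin 81) :
    Function.Injective (add y) ∧ ∀ f x, dot f (add y x) = (dot f y + dot f x) % 3 := by
  refine ⟨fun a b e => by rw [← add_neg y a, e, add_neg], fun f x => ?_⟩
  have hd := dig_add y x
  simp only [dot, hd 0 (by norm_num), hd 1 (by norm_num), hd 2 (by norm_num), hd 3 (by norm_num)]
  exact dot_lin _ _ _ _ _ _ _ _ _ _ _ _

include hcube hcomm in
theorem E_mul_coset {f y : Fin 81} {c : ℕ} (hc : c < 3) :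
    E A y * coset A f c = coset A f ((dot f y + c) % 3) := by
  have hinj := (add_facts y).1
  rw [coset, Finset.mul_sum, coset]
  refine Finset.sum_bij (fun x _ => add y x) (fun x hx => ?_) (fun x _ x' _ e => hinj e) (fun z hz => ?_)
    fun x _ => (E_add A hcube hcomm y x).symm
  · simp only [Finset.mem_filter, Finset.mem_univ, true_and] at hx ⊢
    rw [(add_facts y).2, hx]
  · obtain ⟨x, rfl⟩ := (Finite.injective_iff_surjective.1 hinj) z
    simp only [Finset.mem_filter, Finset.mem_univ, true_and] at hz ⊢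
    refine ⟨x, ?_, rfl⟩
    rw [(add_facts y).2] at hz
    have h1 : dot f x < 3 := Nat.mod_lt _ (by norm_num)
    omega

theorem P_eq (f : Fin 81) : P A f = coset A f 0 := rfl

theorem PA_eq (f : Fin 81) : PA A = coset A f 0 + coset A f 1 + coset A f 2 := by
  rw [PA, coset, coset, coset, ← Finset.sum_union, ← Finset.sum_union]
  · refine Finset.sum_congr (Finset.ext fun x => ?_) fun _ _ => rfl
    simp only [Finset.mem_univ, Finset.mem_union, Finset.mem_filter, true_and, true_iff]
    have : dot f x < 3 := Nat.mod_lt _ (by norm_num)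
    omega
  · refine Finset.disjoint_left.2 fun x hx hx' => ?_
    simp only [Finset.mem_union, Finset.mem_filter, Finset.mem_univ, true_and] at hx hx'
    omega
  · refine Finset.disjoint_left.2 fun x hx hx' => ?_
    simp only [Finset.mem_filter, Finset.mem_univ, true_and] at hx hx'
    omega

include hcube hcomm in
theorem E_mul_PA (y : Fin 81) : E A y * PA A = PA A := by
  rw [PA, Finset.mul_sum]
  exact Finset.sum_bij (fun x _ => add y x) (fun x _ => Finset.mem_univ _)
    (fun x _ x' _ e => (add_facts y).1 e)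
    (fun z _ => (Finite.injective_iff_surjective.1 (add_facts y).1 z).imp fun x e => ⟨Finset.mem_univ _, e⟩)
    fun x _ => (E_add A hcube hcomm y x).symm

include hcube hcomm h2 in
theorem sum_mul_PA (s : Finset (Fin 81)) :
    (∑ x ∈ s, E A x) * PA A = if Odd s.card then PA A else 0 := by
  rw [Finset.sum_mul, Finset.sum_congr rfl fun x _ => E_mul_PA A hcube hcomm x, Finset.sum_const]
  rcases Nat.even_or_odd s.card with h | h
  · rw [if_neg (Nat.not_odd_iff_even.2 h)]
    obtain ⟨k, hk⟩ := h
    rw [hk, add_nsmul, h2]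
  · rw [if_pos h]
    obtain ⟨k, hk⟩ := h
    rw [hk, two_mul, add_nsmul, add_nsmul, h2, one_nsmul, zero_add]

theorem card_odd : ∀ f : Fin 81, Odd (Finset.univ.filter (fun x => dot f x = 0)).card := by decide +kernel

include hcube hcomm h2 in
theorem P_mul_PA (f : Fin 81) : P A f * PA A = PA A := by
  rw [P, sum_mul_PA A hcube hcomm h2, if_pos (card_odd f)]

include hcube hcomm h2 in
theorem PA_mul_PA : PA A * PA A = PA A := by
  show (∑ x, E A x) * PA A = PA A
  rw [sum_mul_PA A hcube hcomm h2, if_pos (by decide)]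

include hcube hcomm in
theorem E_comm_E (x y : Fin 81) : Commute (E A x) (E A y) := by
  show _ * _ = _ * _
  rw [← E_add A hcube hcomm, ← E_add A hcube hcomm, show add x y = add y x from congrArg enc (funext fun k => Nat.add_comm _ _)]

include hcube hcomm in
theorem comm_sums (s t : Finset (Fin 81)) : Commute (∑ x ∈ s, E A x) (∑ x ∈ t, E A x) :=
  Commute.sum_left _ _ _ fun x _ => Commute.sum_right _ _ _ fun y _ => E_comm_E A hcube hcomm x y

include hcube hcomm h2 in
theorem PA_mul_P (f : Fin 81) : PA A * P A f = PA A := by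
  have h := (comm_sums A hcube hcomm Finset.univ (Finset.univ.filter fun x => dot f x = 0)).eq
  exact h.trans (P_mul_PA A hcube hcomm h2 f)

include hcube hcomm h2 in
theorem P_mul_P {f g y : Fin 81} (h0 : dot g y = 0) (h1 : dot f y = 1) : P A f * P A g = PA A := by
  have hE : E A y * P A g = P A g := by
    rw [P_eq, E_mul_coset A hcube hcomm (by norm_num), h0]
  have hc : ∀ c < 3, coset A f c * P A g = coset A f ((1 + c) % 3) * P A g := fun c hc => by
    conv_lhs => rw [← hE, ← mul_assoc, coset, Finset.sum_mul,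
      Finset.sum_congr rfl fun x _ => (E_comm_E A hcube hcomm x y).eq, ← Finset.mul_sum, ← coset,
      E_mul_coset A hcube hcomm hc, h1]
  have e1 := hc 0 (by norm_num)
  have e2 := hc 1 (by norm_num)
  norm_num at e1 e2
  have h := PA_mul_P A hcube hcomm h2 g
  rw [PA_eq A f, add_mul, add_mul, ← e2, ← e1, h2, zero_add, ← PA_eq A f] at h
  rw [P_eq A f]
  exact h

include hcube hcomm h2 in
theorem proj_mul_proj {f g : Fin 81} (hf : f ∈ reps) (hg : g ∈ reps) (hne : f ≠ g) :
    proj A f * proj A g = 0 := by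
  obtain ⟨y, h0, h1⟩ := sep f hf g hg hne
  rw [proj, proj, add_mul, mul_add, mul_add, P_mul_P A hcube hcomm h2 h0 h1, P_mul_PA A hcube hcomm h2,
    PA_mul_P A hcube hcomm h2, PA_mul_PA A hcube hcomm h2, h2]

include hcube hcomm h2 in
theorem proj_sq (f : Fin 81) : proj A f * proj A f = proj A f := by
  have hPP : P A f * P A f = P A f := by
    show (∑ x ∈ Finset.univ.filter (fun x => dot f x = 0), E A x) * P A f = P A f
    rw [Finset.sum_mul, Finset.sum_congr rfl fun x hx => ?_, Finset.sum_const]
    rotate_left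
    · exact P A f
    · rw [P_eq, E_mul_coset A hcube hcomm (by norm_num), (Finset.mem_filter.1 hx).2]
    obtain ⟨k, hk⟩ := card_odd f
    rw [hk, two_mul, add_nsmul, add_nsmul, h2, one_nsmul, zero_add]
  rw [proj, add_mul, mul_add, mul_add, hPP, P_mul_PA A hcube hcomm h2, PA_mul_P A hcube hcomm h2,
    PA_mul_PA A hcube hcomm h2, h2, add_zero]

theorem count_parity : ∀ x : Fin 81, Odd (reps.filter fun f => dot f x = 0).card ↔ x ≠ 0 := by decide +kernel

theorem card_reps : Even reps.card := by decide +kernel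

include hcube hcomm h2 in
theorem exists_proj_ne (hne : ∃ i, A i ≠ 1) : ∃ f ∈ reps, proj A f ≠ 0 := by
  by_contra hall
  push Not at hall
  have hP : ∀ f ∈ reps, P A f = PA A := fun f hf => by
    calc P A f = proj A f + PA A := by rw [proj, add_assoc, h2, add_zero]
      _ = PA A := by rw [hall f hf, zero_add]
  have hsum : ∑ f ∈ reps, P A f = PA A + 1 := by
    have e1 : ∀ x : Fin 81, ∑ f ∈ reps.filter (fun f => dot f x = 0), E A x = if x = 0 then 0 else E A x := by
      intro x
      rw [Finset.sum_const]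
      by_cases hx : x = 0
      · rw [if_pos hx]
        obtain ⟨k, hk⟩ := Nat.not_odd_iff_even.1 fun h => (count_parity x).1 h hx
        rw [hk, add_nsmul, h2]
      · rw [if_neg hx]
        obtain ⟨k, hk⟩ := (count_parity x).2 hx
        rw [hk, two_mul, add_nsmul, add_nsmul, h2, one_nsmul, zero_add]
    calc ∑ f ∈ reps, P A f = ∑ f ∈ reps, ∑ x, if dot f x = 0 then E A x else 0 :=
          Finset.sum_congr rfl fun f _ => Finset.sum_filter _ _
      _ = ∑ x, ∑ f ∈ reps.filter (fun f => dot f x = 0), E A x := by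
          rw [Finset.sum_comm]; exact Finset.sum_congr rfl fun x _ => (Finset.sum_filter _ _).symm
      _ = ∑ x, (E A x + if x = 0 then E A x else 0) := by
          refine Finset.sum_congr rfl fun x _ => ?_
          rw [e1]; split <;> simp [h2]
      _ = PA A + 1 := by rw [Finset.sum_add_distrib, Finset.sum_ite_eq' , if_pos (Finset.mem_univ _), E_zero]; rfl
  obtain ⟨k, hk⟩ := card_reps
  rw [Finset.sum_congr rfl hP, Finset.sum_const, hk, add_nsmul, h2] at hsum
  have h1 : PA A = 1 := by
    calc PA A = PA A + (1 + 1) := by rw [h2, add_zero]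
      _ = 1 := by rw [← add_assoc, ← hsum, zero_add]
  have hy : ∀ y, E A y = 1 := fun y => by
    have := E_mul_PA A hcube hcomm y
    rwa [h1, mul_one] at this
  obtain ⟨i, hi⟩ := hne
  refine hi ?_
  fin_cases i
  · simpa [E, dig] using hy (1 : Fin 81)
  · simpa [E, dig] using hy (3 : Fin 81)
  · simpa [E, dig] using hy (9 : Fin 81)
  · simpa [E, dig] using hy (27 : Fin 81)

theorem mapM_add : ∀ b : Fin 2, ∀ x y, mapM b (add x y) = add (mapM b x) (mapM b y) := by decide +kernel

/-- The code of a basis vector. -/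
def basisCode : Fin 4 → Fin 81 := ![1, 3, 9, 27]

theorem mapM_basis : ∀ b : Fin 2, mapM b 0 = 0 ∧ ∀ j : Fin 4, mapM b (basisCode j) = enc fun k => ent b j k := by
  decide +kernel

theorem build : ∀ x : Fin 81, x = 0 ∨ ∃ z, z < x ∧ ∃ j : Fin 4, x = add z (basisCode j) := by decide +kernel

theorem dig_basis : ∀ j : Fin 4, ∀ k : Fin 4, dig (basisCode j : Fin 81) k = if k = j then 1 else 0 := by decide +kernel

theorem E_basis (j : Fin 4) : E A (basisCode j) = A j := by
  have h := dig_basis j
  simp only [E, show dig (basisCode j : Fin 81) 0 = _ from h 0, show dig (basisCode j : Fin 81) 1 = _ from h 1,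
    show dig (basisCode j : Fin 81) 2 = _ from h 2, show dig (basisCode j : Fin 81) 3 = _ from h 3]
  fin_cases j <;> simp

include hcube hcomm in
theorem conj_E {b : Fin 2} {u : R} (hu : ∀ j : Fin 4, u * A j =
    E A (enc fun k => ent b j k) * u) (x : Fin 81) : u * E A x = E A (mapM b x) * u := by
  induction x using WellFoundedLT.induction with
  | _ x ih =>
    rcases build x with rfl | ⟨z, hz, j, rfl⟩
    · rw [(mapM_basis b).1, E_zero, one_mul, mul_one]
    · rw [E_add A hcube hcomm, mapM_add, E_add A hcube hcomm, (mapM_basis b).2, E_basis, ← mul_assoc, ih z hz,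
        mul_assoc, hu, ← mul_assoc]

include hcube hcomm in
theorem proj_conj {b : Fin 2} {u : R} (hu : ∀ j : Fin 4, u * A j = E A (enc fun k => ent b j k) * u)
    {f : Fin 81} (hf : f ≠ 0) : u * proj A (norm (pull b f)) = proj A f * u := by
  have hn := (norm_mem _ ((pull_facts b f).1 hf)).2
  have hbij := Finite.injective_iff_bijective.1 (fun x y => mapM_injective b x y)
  have hP : u * P A (norm (pull b f)) = P A f * u := by
    rw [P, P, Finset.mul_sum, Finset.sum_mul]
    refine Finset.sum_bij (fun x _ => mapM b x) (fun x hx => ?_) (fun x _ y _ e => hbij.1 e) (fun z hz => ?_)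
      fun x _ => conj_E A hcube hcomm hu x
    · simp only [Finset.mem_filter, Finset.mem_univ, true_and] at hx ⊢
      rw [← (pull_facts b f).2]; exact (hn x).1 hx
    · obtain ⟨x, rfl⟩ := hbij.2 z
      simp only [Finset.mem_filter, Finset.mem_univ, true_and] at hz ⊢
      exact ⟨x, (hn x).2 ((pull_facts b f).2 x ▸ hz), rfl⟩
  have hA : u * PA A = PA A * u := by
    rw [PA, Finset.mul_sum, Finset.sum_mul]
    exact Finset.sum_bij (fun x _ => mapM b x) (fun x _ => Finset.mem_univ _) (fun x _ y _ e => hbij.1 e)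
      (fun z _ => (hbij.2 z).imp fun x e => ⟨Finset.mem_univ _, e⟩) fun x _ => conj_E A hcube hcomm hu x
  rw [proj, proj, mul_add, add_mul, hP, hA]

/-- The commutation codes of the stabiliser with the basis. -/
def conjOK : Bool :=
  (List.range 2).all fun b => (List.range 4).all fun j =>
    eqW 112 [gensH.getD b 0, gensA.getD j 0]
      ((List.range 4).flatMap (fun k => List.replicate (if b = 0 then ent 0 j k else ent 1 j k) (gensA.getD k 0)) ++
        [gensH.getD b 0])

theorem conj_ok : conjOK = true := by decide +kernel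

theorem dig_ent : ∀ b : Fin 2, ∀ j : Fin 4, ∀ k < 4, dig (enc fun k => ent b j k : Fin 81) k = ent b j k := by
  decide +kernel

theorem triple : ∀ y : Fin 81, add y (add y y) = 0 := by decide +kernel

theorem A0_ne : eqW 112 [gensA.getD 0 0] [] = false := by decide +kernel

theorem lengths : gensH.length = 2 ∧ gensA.length = 4 := by decide +kernel

/-- No small action. -/
theorem no_small_action [IsSimpleGroup GP] {V : Type*} [AddCommGroup V] [Finite V] (h2V : ∀ v : V, v + v = 0)
    (hV : Nat.card V < 4 ^ 10) (ρ : GP →* AddMonoid.End V) : ∀ g, ρ g = 1 := by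
  classical
  by_contra hne
  have hinj : Function.Injective ρ := by
    have hk : (ρ.toHomUnits).ker = ⊥ := by
      refine ((inferInstance : (ρ.toHomUnits).ker.Normal).eq_bot_or_eq_top).resolve_right fun h => hne fun g => ?_
      exact congrArg Units.val (MonoidHom.mem_ker.1 (h ▸ Subgroup.mem_top g : g ∈ ρ.toHomUnits.ker))
    intro a b e
    exact (MonoidHom.ker_eq_bot_iff _).1 hk (Units.ext e)
  obtain ⟨hlH, hlA⟩ := lengths
  have hA : ∀ j : Fin 4, gensA.getD j 0 ∈ gensA := fun j => by
    rw [List.getD_eq_getElem _ _ (hlA.symm ▸ j.2)]; exact List.getElem_mem _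
  have hH : ∀ b : Fin 2, gensH.getD b 0 ∈ gensH := fun b => by
    rw [List.getD_eq_getElem _ _ (hlH.symm ▸ b.2)]; exact List.getElem_mem _
  have hAG : ∀ j : Fin 4, permOf 112 (gensA.getD j 0) ∈ GP := fun j =>
    Nb_le_GP (Ab_le_Nb (CfsgLib.KnownA.PermCert.mem_genGroup (hA j)))
  have hHG : ∀ b : Fin 2, permOf 112 (gensH.getD b 0) ∈ GP := fun b =>
    genH_le (CfsgLib.KnownA.PermCert.mem_genGroup (hH b))
  let a : Fin 4 → GP := fun j => ⟨_, hAG j⟩
  let c : Fin 2 → GP := fun b => ⟨_, hHG b⟩
  have hvA : ∀ j : Fin 4, valid 112 (gensA.getD j 0) = true := fun j => gensA_valid (hA j)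
  have hvH : ∀ b : Fin 2, valid 112 (gensH.getD b 0) = true := fun b => gensH_valid (hH b)
  have v1 : ∀ {x : ℕ}, valid 112 x = true → ∀ y ∈ [x], valid 112 y = true := fun h y hy => by
    rw [List.mem_singleton] at hy; exact hy ▸ h
  have v2 : ∀ {x x' : ℕ}, valid 112 x = true → valid 112 x' = true → ∀ y ∈ [x, x'], valid 112 y = true :=
    fun h h' y hy => by
      rcases List.mem_cons.1 hy with rfl | hy
      exacts [h, v1 h' y hy]
  have hrel := A_rel
  simp only [List.all_eq_true, Bool.and_eq_true] at hrel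
  have hcube : ∀ i, ρ (a i) ^ 3 = 1 := fun i => by
    rw [← map_pow, ← map_one ρ]
    refine congrArg ρ (Subtype.ext ?_)
    have := (eqW_iff (fun y hy => by
      rcases List.mem_cons.1 hy with rfl | hy
      exacts [hvA i, v2 (hvA i) (hvA i) y hy]) (by simp)).1 (hrel _ (hA i)).1
    simpa [a, prodW, pow_succ, mul_assoc] using this
  have hcomm : ∀ i j, Commute (ρ (a i)) (ρ (a j)) := fun i j => by
    show _ * _ = _ * _
    rw [← map_mul, ← map_mul]
    refine congrArg ρ (Subtype.ext ?_)
    have := (eqW_iff (v2 (hvA i) (hvA j)) (v2 (hvA j) (hvA i))).1 ((hrel _ (hA i)).2 _ (hA j))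
    simpa [a, prodW] using this
  have h2 : ∀ r : AddMonoid.End V, r + r = 0 := fun r => AddMonoidHom.ext fun v => h2V (r v)
  let A : Fin 4 → AddMonoid.End V := fun j => ρ (a j)
  have hu : ∀ (b : Fin 2) (j : Fin 4), ρ (c b) * A j = E A (enc fun k => ent b j k) * ρ (c b) := by
    intro b j
    have h := conj_ok
    simp only [conjOK, List.all_eq_true, List.mem_range] at h
    have h := h b b.2 j j.2
    have hb : ∀ k, (if (b : ℕ) = 0 then ent 0 j k else ent 1 j k) = ent b j k := fun k => by
      fin_cases b <;> rfl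
    simp only [hb] at h
    have h := (eqW_iff (v2 (hvH b) (hvA j)) (fun y hy => by
      simp only [List.mem_append, List.mem_flatMap, List.mem_range, List.mem_singleton] at hy
      rcases hy with ⟨k, hk, hy⟩ | rfl
      · rw [List.eq_of_mem_replicate hy]; exact gensA_valid (hA ⟨k, hk⟩)
      · exact gensH_valid (hH b))).1 h
    have hd := dig_ent b j
    have he : c b * a j = a 0 ^ ent b j 0 * a 1 ^ ent b j 1 * a 2 ^ ent b j 2 * a 3 ^ ent b j 3 * c b := by
      refine Subtype.ext ?_
      simpa [a, c, prodW, List.range_succ, mul_assoc] using h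
    have := congrArg ρ he
    simpa [A, E, hd 0 (by norm_num), hd 1 (by norm_num), hd 2 (by norm_num), hd 3 (by norm_num)] using this
  have hne1 : ∃ i, A i ≠ 1 := ⟨0, fun h => by
    have h' : a 0 = 1 := hinj (h.trans (map_one ρ).symm)
    have : eqW 112 [gensA.getD 0 0] [] = true := (eqW_iff (v1 (hvA 0)) (by simp)).2 (by
      simpa [a, prodW] using congrArg Subtype.val h')
    rw [A0_ne] at this
    exact Bool.false_ne_true this⟩
  obtain ⟨f₀, hf₀, hf₀'⟩ := exists_proj_ne A hcube hcomm h2 hne1
  have hL := sat_big f₀ hf₀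
  have hS := mem_sat (S := fun f => f ∈ reps ∧ proj A f ≠ 0) (fun b f hf => by
    have hne := reps_ne f hf.1
    refine ⟨(norm_mem _ ((pull_facts b f).1 hne)).1, fun h0 => hf.2 ?_⟩
    have := proj_conj A hcube hcomm (hu b) hne
    rw [h0, mul_zero] at this
    have hi : ρ (c b) * ρ (c b)⁻¹ = 1 := by rw [← map_mul, mul_inv_cancel, map_one]
    calc proj A f = proj A f * (ρ (c b) * ρ (c b)⁻¹) := by rw [hi, mul_one]
      _ = 0 := by rw [← mul_assoc, ← this, zero_mul]) 6 ⟨hf₀, hf₀'⟩
  let F : Fin 10 → Fin 81 := fun i => (sat 6 f₀).get ⟨i, lt_of_lt_of_le i.2 hL.1⟩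
  have hF : ∀ i, F i ∈ sat 6 f₀ := fun i => List.get_mem _ _
  have hFinj : Function.Injective F := fun i j e =>
    Fin.ext (congrArg Fin.val (List.Nodup.injective_get hL.2.1 e) : _)
  have hW : ∀ i, ∃ w : Fin 4 → V, Function.Injective w ∧ ∀ k, proj A (F i) (w k) = w k := by
    intro i
    obtain ⟨hr, hp⟩ := hS _ (hF i)
    obtain ⟨v, hv⟩ : ∃ v, proj A (F i) v ≠ 0 := by
      by_contra h; push Not at h; exact hp (AddMonoidHom.ext h)
    obtain ⟨y, hy⟩ : ∃ y : Fin 81, dot (F i) y = 1 := by
      revert hr; generalize F i = f; revert f; decide +kernel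
    obtain ⟨w, hw⟩ : ∃ w, w = proj A (F i) v := ⟨_, rfl⟩
    rw [← hw] at hv
    have hπw : proj A (F i) w = w := by
      rw [hw]; exact DFunLike.congr_fun (proj_sq A hcube hcomm h2 (F i)) v
    have hcm : ∀ z, Commute (proj A (F i)) (E A z) := fun z =>
      (Commute.sum_left _ _ _ fun x _ => E_comm_E A hcube hcomm x z).add_left
        (Commute.sum_left _ _ _ fun x _ => E_comm_E A hcube hcomm x z)
    have hfix : E A y w ≠ w := fun e => by
      have hz : PA A * proj A (F i) = 0 := by
        rw [proj, mul_add, PA_mul_P A hcube hcomm h2, PA_mul_PA A hcube hcomm h2, h2]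
      have h0 : PA A w = 0 := by rw [hw]; exact DFunLike.congr_fun hz v
      have h1 : P A (F i) w = w := by
        have h : P A (F i) w + PA A w = w := hπw
        rwa [h0, add_zero] at h
      have hc : ∀ c < 2, coset A (F i) c w = w → coset A (F i) (c + 1) w = w := fun c hc hw' => by
        have h' : E A y * coset A (F i) c = coset A (F i) (c + 1) := by
          rw [E_mul_coset A hcube hcomm (by omega), hy]
          congr 1
          omega
        rw [← h']
        show E A y (coset A (F i) c w) = w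
        rw [hw', e]
      have ha := hc 0 (by norm_num) h1
      have hb := hc 1 (by norm_num) ha
      have hsum := h0
      rw [PA_eq A (F i)] at hsum
      change coset A (F i) 0 w + coset A (F i) 1 w + coset A (F i) 2 w = 0 at hsum
      rw [show coset A (F i) 0 w = w from h1, ha, hb, h2V, zero_add] at hsum
      exact hv hsum
    have h3 : E A y * (E A y * E A y) = 1 := by
      rw [← E_add A hcube hcomm, ← E_add A hcube hcomm, ← E_zero A]
      rw [triple]
    have h3' : E A y (E A y (E A y w)) = w := DFunLike.congr_fun h3 w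
    refine ⟨![0, w, E A y w, E A y (E A y w)], ?_, ?_⟩
    · have n2 : E A y w ≠ 0 := fun h => hv (by rw [← h3', h, map_zero, map_zero])
      have n3 : E A y (E A y w) ≠ 0 := fun h => hv (by rw [← h3', h, map_zero])
      have n4 : E A y (E A y w) ≠ w := fun h => hfix (by
        conv_lhs => rw [← h]
        exact h3')
      have n5 : E A y (E A y w) ≠ E A y w := fun h => n4 ((congrArg (⇑(E A y : AddMonoid.End V)) h).symm.trans h3')
      intro a b e
      fin_cases a <;> fin_cases b <;>
        first
          | rfl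
          | (exfalso; first
              | exact hv e | exact hv e.symm | exact n2 e | exact n2 e.symm | exact n3 e | exact n3 e.symm
              | exact hfix e | exact hfix e.symm | exact n4 e | exact n4 e.symm | exact n5 e | exact n5 e.symm)
    · intro k
      have hE : ∀ u, proj A (F i) u = u → proj A (F i) (E A y u) = E A y u := fun u hu => by
        show (proj A (F i) * E A y) u = _
        rw [(hcm y).eq]
        exact congrArg (⇑(E A y : AddMonoid.End V)) hu
      fin_cases k
      exacts [map_zero _, hπw, hE _ hπw, hE _ (hE _ hπw)]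
  choose w hwi hwp using hW
  have hinjW : Function.Injective fun k : Fin 10 → Fin 4 => ∑ i, w i (k i) := by
    intro k l e
    funext i
    have h := congrArg (⇑(proj A (F i) : AddMonoid.End V)) e
    have hs : ∀ k : Fin 10 → Fin 4, proj A (F i) (∑ j, w j (k j)) = w i (k i) := fun k => by
      rw [map_sum, Finset.sum_eq_single i (fun j _ hj => ?_) (by simp)]
      · exact hwp i (k i)
      · rw [← hwp j (k j)]
        exact DFunLike.congr_fun (proj_mul_proj A hcube hcomm h2 (hS _ (hF i)).1 (hS _ (hF j)).1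
          fun e => hj (hFinj e).symm) _
    rw [hs, hs] at h
    exact hwi i h
  have := Nat.card_le_card_of_injective _ hinjW
  rw [Nat.card_fun, Nat.card_fin, Nat.card_fin] at this
  omega

end CfsgLib.Trans3.FiLarge.Hyper
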