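import Cfsg.Agent.Lib.Trans3.FiLarge.Setting
import Cfsg.Agent.Lib.Trans3.FiLarge.Herm
import Cfsg.Agent.Lib.Trans3.FiLarge.Hyper
import Cfsg.Agent.Lib.Classical.UnitaryGen

/-!
The centraliser of `z` in the large Fischer type has coordinates over the field with four elements.
-/

set_option autoImplicit false
set_option maxRecDepth 100000
set_option linter.unusedSectionVars false

namespace CfsgLib.Trans3.FiLarge

open Matrix CfsgLib.Trans3.ExtraTwo CfsgLib.Chev.U43U6
open CfsgLib.KnownA.U4ThreeSchur (GP card_GP exists_equiv)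

section Abstract

variable {H : Type*} [Group H] [Finite H] (π : H →* GP) (hπ : Function.Surjective π)

include hπ in
/-- A homomorphism into a small abelian-kernel target is trivial. -/
theorem hom_small [IsSimpleGroup GP] {A : Type*} [Group A] [Finite A] (f : H →* A)
    (hA : Nat.card A < 3265920) (hker : π.ker ≤ f.ker) : f = 1 := by
  have hn : (f.ker.map π).Normal := Subgroup.Normal.map inferInstance π hπ
  rcases hn.eq_bot_or_eq_top with h | h
  · exfalso
    have hk : f.ker = π.ker := le_antisymm ((Subgroup.map_eq_bot_iff _).1 h) hker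
    have h1 := index_ker_le (f : H →* A)
    rw [hk, Subgroup.index, Nat.card_congr (QuotientGroup.quotientKerEquivOfSurjective π hπ).toEquiv,
      card_GP] at h1
    omega
  · ext x
    obtain ⟨y, hy, e⟩ : π x ∈ f.ker.map π := h ▸ Subgroup.mem_top _
    have hz : y⁻¹ * x ∈ π.ker := by rw [MonoidHom.mem_ker, map_mul, map_inv, e, inv_mul_cancel]
    have := f.ker.mul_mem hy (hker hz)
    rw [mul_inv_cancel_left] at this
    exact this

variable {j : H} (hj : π.ker = Subgroup.zpowers j)

include hπ hj in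
theorem central_of_kernel [IsSimpleGroup GP] (hj3 : orderOf j = 3) (h : H) : h * j = j * h := by
  have hcard : Nat.card π.ker = 3 := by rw [hj, Nat.card_zpowers, hj3]
  let f : H →* MulAut π.ker := MulAut.conjNormal
  have : Fact (Nat.Prime 3) := ⟨Nat.prime_three⟩
  have hcyc : IsCyclic π.ker := isCyclic_of_prime_card hcard
  have hA : Nat.card (MulAut π.ker) < 3265920 := by
    have h1 : Nat.card (MulAut π.ker) ≤ Nat.card (π.ker → π.ker) :=
      Nat.card_le_card_of_injective (fun φ => (φ : π.ker → π.ker)) fun a b e => MulEquiv.ext (congrFun e)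
    rw [Nat.card_fun, hcard] at h1
    omega
  have hf := hom_small π hπ f hA fun k hk => by
    rw [MonoidHom.mem_ker]
    ext x
    rw [hj] at hk
    have hx : (x : H) ∈ Subgroup.zpowers j := hj ▸ x.2
    obtain ⟨a, rfl⟩ := hk
    obtain ⟨c, hc⟩ := hx
    show j ^ a * (x : H) * (j ^ a)⁻¹ = x
    rw [← hc]
    show j ^ a * j ^ c * (j ^ a)⁻¹ = j ^ c
    rw [← _root_.zpow_add, ← _root_.zpow_neg, ← _root_.zpow_add, add_neg_cancel_comm]
  have := congrArg Subtype.val (MulEquiv.congr_fun (DFunLike.congr_fun hf h)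
    ⟨j, hj ▸ Subgroup.mem_zpowers j⟩)
  change h * j * h⁻¹ = j at this
  rwa [mul_inv_eq_iff_eq_mul] at this

/-- Restriction to an invariant subgroup of an additive group. -/
def restrictEnd {V : Type*} [AddCommGroup V] (σ : H →* AddMonoid.End V) (W : AddSubgroup V)
    (hW : ∀ h, ∀ w ∈ W, σ h w ∈ W) : H →* AddMonoid.End W where
  toFun h := AddMonoidHom.mk' (fun w => ⟨σ h w, hW h w w.2⟩) fun a b => Subtype.ext (map_add (σ h) (a : V) b)
  map_one' := AddMonoidHom.ext fun w => Subtype.ext (DFunLike.congr_fun (map_one σ) (w : V))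
  map_mul' a b := AddMonoidHom.ext fun w => Subtype.ext (DFunLike.congr_fun (map_mul σ a b) (w : V))

theorem gl_card_bad : ∀ k ≤ 5, ¬ 9797760 ∣ ∏ i : Fin k, ((4 : ℕ) ^ k - 4 ^ (i : ℕ)) := by decide +kernel

include hπ hj in
/-- The element of order three has no fixed points. -/
theorem fpf [IsSimpleGroup GP] {V : Type*} [AddCommGroup V] [Finite V] (h2 : ∀ v : V, v + v = 0)
    (hV : Nat.card V = 4 ^ 6) (σ : H →* AddMonoid.End V) (hσ : Function.Injective σ) (hj3 : orderOf j = 3) :
    σ j * σ j = 1 + σ j := by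
  have hcardH : Nat.card H = 9797760 := by
    rw [← π.ker.card_mul_index, hj, Nat.card_zpowers, hj3, ← hj, Subgroup.index,
      Nat.card_congr (QuotientGroup.quotientKerEquivOfSurjective π hπ).toEquiv, card_GP]
  set T := σ j with hT
  have hcomm : ∀ h, σ h * T = T * σ h := fun h => by
    rw [hT, ← map_mul, ← map_mul, central_of_kernel π hπ hj hj3]
  have hT3 : ∀ v, T (T (T v)) = v := fun v => by
    have : T * (T * T) = 1 := by
      rw [hT, ← map_mul, ← map_mul, ← mul_assoc, show j * j * j = j ^ 3 by rw [pow_three, mul_assoc], ← hj3, pow_orderOf_eq_one,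
        map_one]
    exact DFunLike.congr_fun this v
  let W : AddSubgroup V := (T + 1).ker
  have hWmem : ∀ v, v ∈ W ↔ T v = v := fun v => by
    show T v + v = 0 ↔ _
    exact ⟨fun h => by rw [← sub_eq_zero, sub_eq_add_neg, neg_eq_of_add_eq_zero_left (h2 v), h],
      fun h => by rw [h, h2]⟩
  by_cases hW : W = ⊥
  · refine AddMonoidHom.ext fun v => ?_
    have hmem : T (T v) + T v + v ∈ W := by
      rw [hWmem, map_add, map_add, hT3]
      abel
    rw [hW, AddSubgroup.mem_bot] at hmem
    show T (T v) = v + T v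
    calc T (T v) = T (T v) + (T v + T v) + (v + v) := by rw [h2, h2, add_zero, add_zero]
      _ = (T (T v) + T v + v) + (v + T v) := by abel
      _ = v + T v := by rw [hmem, zero_add]
  exfalso
  -- the group centralises the fixed space
  have hWinv : ∀ h, ∀ w ∈ W, σ h w ∈ W := fun h w hw => by
    rw [hWmem] at hw ⊢
    rw [show T (σ h w) = σ h (T w) from (DFunLike.congr_fun (hcomm h) w).symm, hw]
  let r := restrictEnd σ W hWinv
  have hrj : π.ker ≤ r.ker := by
    rw [hj, Subgroup.zpowers_le, MonoidHom.mem_ker]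
    exact AddMonoidHom.ext fun w => Subtype.ext ((hWmem _).1 w.2)
  have htriv : ∀ h, ∀ w ∈ W, σ h w = w := by
    intro h w hw
    let eq := QuotientGroup.quotientKerEquivOfSurjective π hπ
    let r' : GP →* AddMonoid.End W := (QuotientGroup.lift π.ker r hrj).comp eq.symm.toMonoidHom
    have hr : r' (π h) = r h := by
      show QuotientGroup.lift π.ker r hrj (eq.symm (π h)) = r h
      rw [show π h = eq (QuotientGroup.mk h) from rfl, MulEquiv.symm_apply_apply]
      rfl
    have hsmall : Nat.card W < 4 ^ 10 := by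
      have := Nat.card_le_card_of_injective _ (Subtype.val_injective (p := fun v => v ∈ W))
      rw [hV] at this
      omega
    rw [Hyper.no_small_action (fun v => Subtype.ext (h2 v)) hsmall r' (π h)] at hr
    exact (congrArg Subtype.val (DFunLike.congr_fun hr ⟨w, hw⟩)).symm
  let W' : AddSubgroup V := (T + 1).range
  have hW'inv : ∀ h, ∀ w ∈ W', σ h w ∈ W' := by
    rintro h _ ⟨v, rfl⟩
    refine ⟨σ h v, ?_⟩
    show T (σ h v) + σ h v = σ h (T v + v)
    rw [map_add, show T (σ h v) = σ h (T v) from (DFunLike.congr_fun (hcomm h) v).symm]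
  let s := restrictEnd σ W' hW'inv
  have hs : Function.Injective s := by
    refine (injective_iff_map_eq_one s).2 fun h hh => hσ ?_
    rw [map_one]
    refine AddMonoidHom.ext fun v => ?_
    have e1 : σ h (T (T v) + T v + v) = T (T v) + T v + v := htriv h _ (by
      rw [hWmem, map_add, map_add, hT3]; abel)
    have e2 : σ h (T (T v) + T v) = T (T v) + T v := by
      have hm : T (T v) + T v ∈ W' := ⟨T v, rfl⟩
      have h' := congrArg Subtype.val (DFunLike.congr_fun hh (⟨_, hm⟩ : W'))
      exact h'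
    show σ h v = v
    rw [map_add, e2] at e1
    exact add_left_cancel e1
  have hlt : Nat.card W' < 4 ^ 6 := by
    rw [← hV]
    refine lt_of_le_of_ne (Nat.card_le_card_of_injective _ Subtype.val_injective) fun he => hW ?_
    have hbij : Function.Bijective (fun v : V => (⟨(T + 1) v, v, rfl⟩ : W')) :=
      (Nat.bijective_iff_surjective_and_card _).2 ⟨fun ⟨_, v, e⟩ => ⟨v, Subtype.ext e⟩, he.symm⟩
    refine (AddSubgroup.eq_bot_iff_forall _).2 fun v hv => hbij.1 (Subtype.ext ?_)
    show (T + 1) v = (T + 1) 0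
    rw [map_zero]
    exact hv
  have hs2 : ∀ w : W', w + w = 0 := fun w => Subtype.ext (h2 w)
  have hsJ : s j * s j = 1 + s j := by
    refine AddMonoidHom.ext fun w => Subtype.ext ?_
    obtain ⟨v, hv⟩ := w.2
    show T (T w) = (w : V) + T w
    rw [← hv]
    show T (T (T v + v)) = (T v + v) + T (T v + v)
    rw [map_add, map_add, hT3]
    calc v + T (T v) = v + T (T v) + (T v + T v) := by rw [h2 (T v), add_zero]
      _ = _ := by abel
  letI : Module F4 W' := fourModule hs2 hsJ
  haveI : FiniteDimensional F4 W' := Module.Finite.of_finite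
  have hlin : ∀ (h : H) (a : F4) (w : W'), s h (a • w) = a • s h w := by
    intro h a w
    have hc : ∀ u : W', s h (s j u) = s j (s h u) := fun u =>
      Subtype.ext (DFunLike.congr_fun (hcomm h) (u : V))
    have hom : ∀ u : W', om • u = s j u := fun u => by
      show smulJ (s j) om u = _
      rw [(smulJ_basic (s j)).2.1]
    rcases f4_cases a with rfl | rfl | rfl | rfl
    · rw [zero_smul, zero_smul, map_zero]
    · rw [one_smul, one_smul]
    · rw [hom, hom, hc]
    · rw [add_smul, add_smul, one_smul, one_smul, map_add, hom, hom, hc]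
  let L : H →* (W' →ₗ[F4] W') :=
    { toFun := fun h => { toFun := s h, map_add' := map_add _, map_smul' := hlin h }
      map_one' := LinearMap.ext fun w => DFunLike.congr_fun (map_one s) w
      map_mul' := fun a b => LinearMap.ext fun w => DFunLike.congr_fun (map_mul s a b) w }
  let b := Module.finBasis F4 W'
  set k := Module.finrank F4 W'
  let Lm : H →* Matrix (Fin k) (Fin k) F4 :=
    ((LinearMap.toMatrixAlgEquiv b).toAlgHom.toRingHom.toMonoidHom).comp L
  have hLm : Function.Injective Lm := fun x y e => hs (by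
    have := (LinearMap.toMatrixAlgEquiv b).injective e
    exact AddMonoidHom.ext fun w => LinearMap.congr_fun this w)
  have hk : k ≤ 5 := by
    have h := Module.natCard_eq_pow_finrank (K := F4) (V := W')
    rw [Nat.card_eq_fintype_card (α := F4), card_F4] at h
    change _ = 4 ^ k at h
    by_contra hk
    have := Nat.pow_le_pow_right (show 0 < 4 by norm_num) (show 6 ≤ k by omega)
    omega
  have hdvd := Subgroup.card_dvd_of_injective Lm.toHomUnits fun x y e => hLm (congrArg Units.val e)
  rw [hcardH, Matrix.card_GL_field, card_F4] at hdvd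
  exact gl_card_bad k hk hdvd

end Abstract

theorem herm6_mat (g : GS F4) (u v : V6) : herm6 (mat g *ᵥ u) (mat g *ᵥ v) = herm6 u v := herm_mat g u v

theorem det_scal_om : (om • (1 : Matrix (Fin 6) (Fin 6) F4)).det = 1 := by
  rw [Matrix.det_smul, Matrix.det_one, Fintype.card_fin, mul_one]
  decide +kernel

variable {G : Type*} [Group G] [Finite G] {z : G} {Q : Subgroup (Subgroup.centralizer ({z} : Set G))}
  [Q.Normal]

/-- The coordinates exist. -/
theorem exists_coord (hF : Cfsg.IsOfLargeFischerTypeAt z Q) : Nonempty (Coord z Q) := by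
  classical
  obtain ⟨hs, N, M, hNn, hMn, hQN, hNM, hNcard, ⟨Fd, _, _, hFd, ⟨ψ⟩⟩, hMidx⟩ := hF
  obtain ⟨eGP⟩ := exists_equiv (F := Fd) hFd
  haveI : IsSimpleGroup (Cfsg.PSU 4 Fd 3) :=
    CfsgLib.Classical.isSimpleGroup_psu (q := 3) (by rw [hFd]; norm_num) (by norm_num) (by norm_num)
  haveI : IsSimpleGroup GP := eGP.isSimpleGroup
  obtain ⟨t, ⟨e⟩⟩ := exists_model hs
  haveI : (N.subgroupOf M).Normal := inferInstance
  haveI : (Q.subgroupOf M).Normal := inferInstance
  -- the group `M / Q`
  let π : ↥M ⧸ Q.subgroupOf M →* GP :=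
    QuotientGroup.lift (Q.subgroupOf M) ((ψ.trans eGP.symm).toMonoidHom.comp (QuotientGroup.mk' (N.subgroupOf M)))
      fun m hm => by
        rw [MonoidHom.mem_ker, MonoidHom.comp_apply, show QuotientGroup.mk' (N.subgroupOf M) m = 1 from
          (QuotientGroup.eq_one_iff m).2 (hQN hm), map_one]
  have hπ : Function.Surjective π := fun y => by
    obtain ⟨q, rfl⟩ := (ψ.trans eGP.symm).surjective y
    obtain ⟨m, rfl⟩ := QuotientGroup.mk_surjective q
    exact ⟨QuotientGroup.mk m, rfl⟩
  have hπker : ∀ m : M, π (QuotientGroup.mk m) = 1 ↔ (m : Subgroup.centralizer ({z} : Set G)) ∈ N := fun m => by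
    show (ψ.trans eGP.symm) (QuotientGroup.mk' (N.subgroupOf M) m) = 1 ↔ _
    rw [MulEquiv.map_eq_one_iff]
    exact QuotientGroup.eq_one_iff m
  have hker3 : Nat.card π.ker = 3 := by
    have e1 : π.ker = (N.subgroupOf M).map (QuotientGroup.mk' (Q.subgroupOf M)) := by
      ext x
      obtain ⟨m, rfl⟩ := QuotientGroup.mk_surjective x
      rw [MonoidHom.mem_ker, hπker]
      refine ⟨fun h => ⟨m, h, rfl⟩, ?_⟩
      rintro ⟨n, hn, en⟩
      have := QuotientGroup.eq.1 en
      have h' := N.mul_mem hn (hQN this)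
      simpa using h'
    let f := (QuotientGroup.mk' (Q.subgroupOf M)).subgroupMap (N.subgroupOf M)
    have hf := MonoidHom.subgroupMap_surjective (QuotientGroup.mk' (Q.subgroupOf M)) (N.subgroupOf M)
    have hfk : f.ker = (Q.subgroupOf M).subgroupOf (N.subgroupOf M) := by
      ext x
      rw [MonoidHom.mem_ker, Subgroup.mem_subgroupOf]
      exact ⟨fun h => (QuotientGroup.eq_one_iff (x : M)).1 (congrArg Subtype.val h),
        fun h => Subtype.ext ((QuotientGroup.eq_one_iff (x : M)).2 h)⟩
    have h := f.ker.card_mul_index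
    rw [Subgroup.index, Nat.card_congr (QuotientGroup.quotientKerEquivOfSurjective f hf).toEquiv, hfk,
      Nat.card_congr (Subgroup.subgroupOfEquivOfLe (show Q.subgroupOf M ≤ N.subgroupOf M from
        fun x hx => hQN hx)).toEquiv,
      Nat.card_congr (Subgroup.subgroupOfEquivOfLe (hQN.trans hNM)).toEquiv,
      Nat.card_congr (Subgroup.subgroupOfEquivOfLe hNM).toEquiv, hNcard, mul_comm 3] at h
    rw [e1]
    exact Nat.eq_of_mul_eq_mul_left Nat.card_pos h
  obtain ⟨jj, hjj⟩ := (isCyclic_of_prime_card (p := 3) (hp := ⟨Nat.prime_three⟩) hker3).exists_generator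
  set j : ↥M ⧸ Q.subgroupOf M := (jj : ↥M ⧸ Q.subgroupOf M)
  have hj : π.ker = Subgroup.zpowers j := by
    refine le_antisymm (fun x hx => ?_) (Subgroup.zpowers_le.2 jj.2)
    obtain ⟨i, hi⟩ := hjj ⟨x, hx⟩
    exact ⟨i, congrArg Subtype.val hi⟩
  have hj3 : orderOf j = 3 := by rw [← Nat.card_zpowers, ← hj, hker3]
  let σ : ↥M ⧸ Q.subgroupOf M →* AddMonoid.End (Sp 6) :=
    QuotientGroup.lift (Q.subgroupOf M) ((rho e).comp M.subtype) fun m hm => (rho_eq_one_iff e hs _).2 hm
  have hσk : ∀ x, σ x = 1 → x = 1 := fun x h => by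
    obtain ⟨m, rfl⟩ := QuotientGroup.mk_surjective x
    exact (QuotientGroup.eq_one_iff m).2 ((rho_eq_one_iff e hs _).1 h)
  have hσ : Function.Injective σ := (injective_iff_map_eq_one σ).2 hσk
  obtain ⟨mj, hmj⟩ := QuotientGroup.mk_surjective j
  set T := σ j with hTdef
  have hJ : T * T = 1 + T := fpf π hπ hj sp_add_self (by
    rw [Nat.card_eq_fintype_card, Fintype.card_fun, Fintype.card_prod, ZMod.card, Fintype.card_fin]) σ hσ hj3
  have hTrho : T = rho e (mj : Subgroup.centralizer ({z} : Set G)) := by rw [hTdef, ← hmj]; rfl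
  have hiso : ∀ v, beta t (T v) (T v) = beta t v v := fun v => by rw [hTrho]; exact rho_sq e _ v
  obtain ⟨Φ, hΦJ, hΦh⟩ := exists_coords T hJ hiso
  have hTc : ∀ (x : ↥M ⧸ Q.subgroupOf M) v, σ x (T v) = T (σ x v) := fun x v => by
    have := congrArg σ (central_of_kernel π hπ hj hj3 x)
    rw [map_mul, map_mul] at this
    exact DFunLike.congr_fun this v
  have hΦsymm : ∀ u, Φ.symm (om • Φ u) = T u := fun u => by rw [← hΦJ, Φ.symm_apply_apply]
  have hlin : ∀ (f : AddMonoid.End (Sp 6)), (∀ u, f (T u) = T (f u)) → ∀ (a : F4) (w : V6),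
      Φ (f (Φ.symm (a • w))) = a • Φ (f (Φ.symm w)) := by
    intro f hf a w
    have hom : Φ (f (Φ.symm (om • w))) = om • Φ (f (Φ.symm w)) := by
      obtain ⟨u, rfl⟩ := Φ.surjective w
      rw [hΦsymm, hf, hΦJ, Φ.symm_apply_apply]
    rcases f4_cases a with rfl | rfl | rfl | rfl
    · simp
    · simp
    · exact hom
    · rw [add_smul, one_smul, map_add, map_add, map_add, hom, add_smul, one_smul]
  -- the matrices
  let L : ↥M ⧸ Q.subgroupOf M →* (V6 →ₗ[F4] V6) :=
    { toFun := fun x =>
        { toFun := fun w => Φ (σ x (Φ.symm w))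
          map_add' := fun u w => by rw [map_add, map_add, map_add]
          map_smul' := fun a w => hlin (σ x) (hTc x) a w }
      map_one' := LinearMap.ext fun w => by
        show Φ (σ 1 (Φ.symm w)) = w
        rw [map_one]; exact Φ.apply_symm_apply w
      map_mul' := fun x y => LinearMap.ext fun w => by
        show Φ (σ (x * y) (Φ.symm w)) = Φ (σ x (Φ.symm (Φ (σ y (Φ.symm w)))))
        rw [map_mul, Φ.symm_apply_apply]; rfl }
  let Mm : ↥M ⧸ Q.subgroupOf M →* Matrix (Fin 6) (Fin 6) F4 :=
    (LinearMap.toMatrixAlgEquiv' (R := F4) (n := Fin 6)).toAlgHom.toRingHom.toMonoidHom.comp L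
  have hMm : ∀ x w, Mm x *ᵥ w = Φ (σ x (Φ.symm w)) := fun x w => by
    show LinearMap.toMatrix' (L x) *ᵥ w = _
    rw [← Matrix.toLin'_apply, Matrix.toLin'_toMatrix']
    rfl
  have hMj : Mm j = om • (1 : Matrix (Fin 6) (Fin 6) F4) := by
    refine Matrix.ext_of_mulVec_single fun i => ?_
    rw [hMm, Matrix.smul_mulVec, Matrix.one_mulVec, hΦJ, Φ.apply_symm_apply]
  let d : ↥M ⧸ Q.subgroupOf M →* F4ˣ := (Matrix.detMonoidHom.comp Mm).toHomUnits
  have hd : ∀ x, (Mm x).det = 1 := fun x => by
    have h : d = 1 := hom_small π hπ d (by rw [Nat.card_eq_fintype_card]; decide +kernel) (by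
      rw [hj, Subgroup.zpowers_le, MonoidHom.mem_ker]
      refine Units.ext ?_
      show (Mm j).det = 1
      rw [hMj]; exact det_scal_om)
    exact congrArg Units.val (DFunLike.congr_fun h x)
  have halt : ∀ (c : Subgroup.centralizer ({z} : Set G)) u v, alt (rho e c u) (rho e c v) = alt u v := rho_alt e
  have hherm : ∀ x u v, herm6 (Mm x *ᵥ u) (Mm x *ᵥ v) = herm6 u v := fun x u v => by
    obtain ⟨u, rfl⟩ := Φ.surjective u
    obtain ⟨v, rfl⟩ := Φ.surjective v
    rw [hMm, hMm, Φ.symm_apply_apply, Φ.symm_apply_apply, hΦh, hΦh, hf, hf, ← hTc]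
    obtain ⟨m, rfl⟩ := QuotientGroup.mk_surjective x
    show pack (alt (rho e (m : Subgroup.centralizer ({z} : Set G)) (T u)) (rho e (m : _) v) + _) _ = _
    rw [show ∀ a b, alt (σ (QuotientGroup.mk m) a) (σ (QuotientGroup.mk m) b) = alt a b from fun a b => halt _ a b,
      halt]
  let act0 : ↥M ⧸ Q.subgroupOf M →* GS F4 :=
    { toFun := fun x => ⟨⟨Mm x, hd x⟩, hherm x⟩
      map_one' := Subtype.ext (Subtype.ext (map_one Mm))
      map_mul' := fun x y => Subtype.ext (Subtype.ext (map_mul Mm x y)) }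
  have hact0 : Function.Injective act0 := fun x y h => hσ (by
    refine AddMonoidHom.ext fun v => Φ.injective ?_
    have := congrArg (fun g : GS F4 => mat g *ᵥ Φ v) h
    change Mm x *ᵥ Φ v = Mm y *ᵥ Φ v at this
    rw [hMm, hMm, Φ.symm_apply_apply] at this
    exact this)
  let eR := MonoidHom.ofInjective hact0
  let π' : act0.range →* GP := π.comp eR.symm.toMonoidHom
  have hπ' : Function.Surjective π' := hπ.comp eR.symm.surjective
  have hcen : Subgroup.center act0.range = π'.ker := by
    ext r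
    obtain ⟨x, rfl⟩ := eR.surjective r
    rw [MonoidHom.mem_ker, show π' (eR x) = π x by simp [π'], ← MonoidHom.mem_ker, Subgroup.mem_center_iff]
    constructor
    · intro h
      rw [MonoidHom.mem_ker, ← Subgroup.mem_bot, ← center_GP, Subgroup.mem_center_iff]
      intro y
      obtain ⟨y, rfl⟩ := hπ y
      rw [← map_mul, ← map_mul]
      exact congrArg π (eR.injective (by rw [map_mul, map_mul, h]))
    · intro hx r
      obtain ⟨y, rfl⟩ := eR.surjective r
      rw [hj] at hx
      obtain ⟨i, rfl⟩ := hx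
      rw [← map_mul, ← map_mul]
      exact congrArg eR ((Commute.zpow_right (central_of_kernel π hπ hj hj3 y) i).eq)
  have hcen3 : Nat.card (Subgroup.center act0.range) = 3 := by
    rw [← hker3, hcen]
    refine Nat.card_congr
      { toFun := fun r => ⟨eR.symm r, r.2⟩
        invFun := fun x => ⟨eR x, by
          show π (eR.symm (eR x)) = 1
          rw [MulEquiv.symm_apply_apply]; exact x.2⟩
        left_inv := fun r => Subtype.ext (eR.apply_symm_apply _)
        right_inv := fun x => Subtype.ext (eR.symm_apply_apply _) }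
  obtain ⟨g, b, hgb⟩ := exists_conj_Kb isOmega_om card_F4 hcen3
    ((QuotientGroup.quotientMulEquivOfEq hcen).trans (QuotientGroup.quotientKerEquivOfSurjective π' hπ'))
  have hgg : ∀ v, mat g⁻¹ *ᵥ (mat g *ᵥ v) = v := fun v => by
    rw [mulVec_mulVec, show mat g⁻¹ * mat g = mat (g⁻¹ * g) from rfl, inv_mul_cancel,
      show mat (1 : GS F4) = 1 from rfl, one_mulVec]
  have hge : ∀ u v, mat g *ᵥ u = mat g *ᵥ v ↔ u = v := fun u v =>
    ⟨fun h => by rw [← hgg u, h, hgg], fun h => h ▸ rfl⟩
  refine ⟨{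
    b := b
    pr := fun h => mat g *ᵥ Φ (vC e h)
    pr_mul := fun q hq r hr => by rw [vC_mul e hq hr, map_add, mulVec_add]
    pr_surj := fun v => ?_
    pr_eq_zero := fun q hq => ?_
    comm_iff := fun q hq r hr => ?_
    sq_iff := fun q hq => ?_
    M := M
    le_M := hQN.trans hNM
    index_M := hMidx
    act := (MulAut.conj g).toMonoidHom.comp (act0.comp (QuotientGroup.mk' (Q.subgroupOf M)))
    range_act := ?_
    ker_act := fun m => ?_
    conj_pr := fun m q hq => ?_
    faithful := fun h hh => ?_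
    semi := fun h => ?_ }⟩
  · obtain ⟨u, hu⟩ := Φ.surjective (mat g⁻¹ *ᵥ v)
    obtain ⟨q, hq, hv⟩ := vC_surj e u
    refine ⟨q, hq, ?_⟩
    show mat g *ᵥ Φ (vC e q) = v
    rw [hv, hu, mulVec_mulVec, show mat g * mat g⁻¹ = mat (g * g⁻¹) from rfl, mul_inv_cancel,
      show mat (1 : GS F4) = 1 from rfl, one_mulVec]
  · show mat g *ᵥ Φ (vC e q) = 0 ↔ _
    rw [← vC_eq_zero e hs hq, ← map_eq_zero_iff Φ Φ.injective]
    conv_lhs => rw [← mulVec_zero (mat g)]
    exact hge _ _
  · show _ ↔ herm6 (mat g *ᵥ Φ (vC e q)) (mat g *ᵥ Φ (vC e r)) + _ = 0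
    rw [herm6_mat, hΦh, hf, (pack_spec _ _).2.2.2.1, vC_comm e hq hr]
  · show _ ↔ herm6 (mat g *ᵥ Φ (vC e q)) (mat g *ᵥ Φ (vC e q)) = 0
    rw [herm6_mat, hΦh, hf_self T hJ hiso, (pack_spec _ 0).2.2.2.2, vC_sq e hq]
  · rw [MonoidHom.range_comp, MonoidHom.range_comp, QuotientGroup.range_mk', ← MonoidHom.range_eq_map, hgb]
  · show MulAut.conj g (act0 (QuotientGroup.mk m)) = 1 ↔ _
    rw [MulEquiv.map_eq_one_iff, map_eq_one_iff act0 hact0]
    exact QuotientGroup.eq_one_iff m
  · show mat g *ᵥ Φ (vC e _) = (mat g * Mm (QuotientGroup.mk m) * mat g⁻¹) *ᵥ (mat g *ᵥ Φ (vC e q))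
    rw [← mulVec_mulVec, hgg, ← mulVec_mulVec, hMm, Φ.symm_apply_apply]
    show _ = mat g *ᵥ Φ (rho e (m : Subgroup.centralizer ({z} : Set G)) (vC e q))
    rw [rho_vC e _ hq]
  · refine (rho_eq_one_iff e hs h).1 (AddMonoidHom.ext fun v => ?_)
    obtain ⟨q, hq, rfl⟩ := vC_surj e v
    show rho e h (vC e q) = vC e q
    rw [rho_vC e h hq]
    exact Φ.injective ((hge _ _).1 (hh q hq))
  · -- conjugation normalises the scalars
    have hmjN : (mj : Subgroup.centralizer ({z} : Set G)) ∈ N := (hπker mj).1 (by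
      rw [hmj]; exact jj.2)
    have hn' : h * mj * h⁻¹ ∈ N := hNn.conj_mem _ hmjN h
    obtain ⟨i, hi, hrho⟩ : ∃ i : ℕ, (i = 1 ∨ i = 2) ∧
        rho e (h * mj * h⁻¹) = T ^ i := by
      have hk : (QuotientGroup.mk (⟨h * mj * h⁻¹, hNM hn'⟩ : M) : ↥M ⧸ Q.subgroupOf M) ∈ π.ker :=
        MonoidHom.mem_ker.2 ((hπker _).2 hn')
      rw [hj, mem_zpowers_iff_mem_range_orderOf, hj3, Finset.mem_image] at hk
      obtain ⟨i, hi, hk⟩ := hk
      rw [Finset.mem_range] at hi
      have hh : rho e (h * mj * h⁻¹) = T ^ i := by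
        rw [hTdef, ← map_pow, hk]; rfl
      refine ⟨i, ?_, hh⟩
      rcases (show i = 0 ∨ i = 1 ∨ i = 2 by omega) with rfl | h12
      · exfalso
        rw [pow_zero, rho_eq_one_iff e hs] at hh
        have h' : h⁻¹ * (h * mj * h⁻¹) * h⁻¹⁻¹ ∈ Q :=
          Subgroup.Normal.conj_mem inferInstance _ hh h⁻¹
        rw [show h⁻¹ * (h * mj * h⁻¹) * h⁻¹⁻¹ = mj by group] at h'
        have hj1 : j = 1 := by rw [← hmj]; exact (QuotientGroup.eq_one_iff mj).2 h'
        rw [hj1, orderOf_one] at hj3
        omega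
      · exact h12
    have hTh : ∀ u, rho e h (T u) = (T ^ i) (rho e h u) := fun u => by
      have : rho e h * T = T ^ i * rho e h := by
        rw [← hrho, hTrho, ← map_mul, ← map_mul, inv_mul_cancel_right]
      exact DFunLike.congr_fun this u
    refine ⟨i, hi, fun q hq r hr a hqr => ?_, fun q hq r hr => ?_⟩
    · have hqr' : Φ (vC e r) = a • Φ (vC e q) := (hge _ _).1 (by
        show _ = mat g *ᵥ (a • Φ (vC e q))
        rw [mulVec_smul]; exact hqr)
      show mat g *ᵥ Φ (vC e _) = a ^ i • (mat g *ᵥ Φ (vC e _))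
      rw [← rho_vC e h hr, ← rho_vC e h hq, ← mulVec_smul, hge]
      have hr' : vC e r = Φ.symm (a • Φ (vC e q)) := by rw [← hqr', Φ.symm_apply_apply]
      rw [hr']
      generalize vC e q = u
      have hom : ∀ u, Φ (rho e h (Φ.symm (om • Φ u))) = om ^ i • Φ (rho e h u) := fun u => by
        rw [hΦsymm, hTh]
        rcases hi with rfl | rfl
        · rw [pow_one, pow_one, hΦJ]
        · rw [pow_two, pow_two, ← smul_smul, ← hΦJ, ← hΦJ]; rfl
      rcases f4_cases a with rfl | rfl | rfl | rfl
      · rcases hi with rfl | rfl <;> simp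
      · simp
      · exact hom u
      · have e1 : (1 + om : F4) ^ i = 1 + om ^ i := by rcases hi with rfl | rfl <;> decide +kernel
        rw [add_smul, one_smul, map_add, map_add, map_add, hom, Φ.symm_apply_apply, e1, add_smul, one_smul]
    · show herm6 (mat g *ᵥ Φ (vC e _)) (mat g *ᵥ Φ (vC e _)) = herm6 (mat g *ᵥ Φ (vC e q)) (mat g *ᵥ Φ (vC e r)) ^ i
      rw [herm6_mat, herm6_mat, hΦh, hΦh, ← rho_vC e h hq, ← rho_vC e h hr, hf, hf]
      rcases hi with rfl | rfl
      · have := hTh (vC e q)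
        rw [pow_one] at this
        rw [← this, halt, halt, pow_one]
      · have h2T : T (rho e h (vC e q)) = rho e h (T (T (vC e q))) := by
          rw [hTh, hTh]
          show _ = T (T (T (T (rho e h (vC e q)))))
          generalize rho e h (vC e q) = w
          have h3 : ∀ u, T (T (T u)) = u := fun u => by
            rw [J_sq T hJ, J_sq T hJ, add_left_comm, sp_add_self, add_zero]
          rw [h3]
        rw [h2T, halt, halt, pow_two (pack _ _), (pack_spec _ _).2.1, J_sq T hJ, alt_add_left]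
        congr 1
        generalize alt (T (vC e q)) (vC e r) = A; generalize alt (vC e q) (vC e r) = B
        revert A B; decide

end CfsgLib.Trans3.FiLarge
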