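import Cfsg.Agent.Lib.Trans3.FiLarge.Coord
import Cfsg.Agent.Lib.Trans3.FiLarge.OrbitData

/-!
The kernel checks on the orbit tables.
-/

set_option autoImplicit false
set_option maxRecDepth 100000

namespace CfsgLib.Trans3.FiLarge

open CfsgLib.Chev.U43U6

/-- The matrices of the three generators. -/
def genM (b t : ℕ) : List ℕ := [(kMat b).getD 0 [], (kMat b).getD 1 [], scalM].getD t []

theorem genM_isSU : ∀ b : Fin 3, ∀ t : Fin 3, isSU (genM b t) = true := by decide +kernel

theorem scalM_entries : ∀ r c : Fin 6, crd (colM scalM c) r = if r = c then 2 else 0 := by decide +kernel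

/-- A table. -/
def orbTab (b : ℕ) : ℕ := if b = 0 then orbTab0 else if b = 1 then orbTab1 else orbTab2

/-- An entry. -/
def ent (b c : ℕ) : ℕ := Nat.shiftRight (orbTab b) (24 * c) % 16777216

/-- The label of a code: `1` for the short orbit, `2` for the long one, `0` otherwise. -/
def lab (b c : ℕ) : ℕ := ent b c / 4194304

/-- The checks at one code. -/
def codeCheck (b c : ℕ) : Bool :=
  let p := ent b c % 4096
  let t := ent b c / 4096 % 4
  let r := ent b c / 16384 % 256
  ([0, 1, 2].all fun g => Nat.beq (lab b (mulV (genM b g) c)) (lab b c)) &&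
    if Nat.beq c 0 || !Nat.beq (herm c c) 0 then Nat.beq (lab b c) 0 else
      (Nat.beq (lab b c) 1 || Nat.beq (lab b c) 2) &&
        ((Nat.beq r 0 && Nat.beq c (if Nat.beq (lab b c) 1 then smallRep else bigRep)) ||
          (Nat.blt t 3 && Nat.blt (ent b p / 16384 % 256) r && Nat.beq (lab b p) (lab b c) &&
            Nat.beq (mulV (genM b t) p) c))

theorem check0 : ((List.range 4096).all (codeCheck 0)) = true := by decide +kernel

theorem check1 : ((List.range 4096).all (codeCheck 1)) = true := by decide +kernel

theorem check2 : ((List.range 4096).all (codeCheck 2)) = true := by decide +kernel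

theorem rep_lab : ∀ b : Fin 3, lab b smallRep = 1 ∧ lab b bigRep = 2 := by decide +kernel

theorem count_labels : ∀ b : Fin 3,
    ((List.range 4096).countP fun c => Nat.beq (lab b c) 1) = 378 ∧
      ((List.range 4096).countP fun c => Nat.beq (lab b c) 2) = 1701 := by decide +kernel

end CfsgLib.Trans3.FiLarge
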