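import Cfsg.Agent.Lib.Trans3.FiLarge.Coord
import Cfsg.Agent.Lib.Trans3.FiLarge.OrbitChecks

/-!
Each of the three covers of `PSU₄(3)` has exactly two orbits, of lengths 378 and 1701, on nonzero isotropic
vectors.
-/

set_option autoImplicit false
set_option maxRecDepth 100000

namespace CfsgLib.Trans3.FiLarge

open Matrix CfsgLib.Chev.U43U6
open CfsgLib.KnownA.PermCert (permOf permOf_val valid_lt pimg)
open CfsgLib.KnownA.U4ThreeSchur (GP gensG codeA codeB valid_gens)

/-- The code of the permutation of the frames. -/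
def genCode (t : Fin 2) : ℕ := if t = 0 then codeA else codeB

theorem genCode_valid (t : Fin 2) : CfsgLib.KnownA.PermCert.valid 112 (genCode t) = true := by
  unfold genCode; split
  exacts [valid_gens.1, valid_gens.2]

/-- A generator as an element. -/
noncomputable def genEl (b t : Fin 3) : GS F4 :=
  (exists_el isOmega_om card_F4 (genM_isSU b t)).choose

theorem genEl_mat (b t : Fin 3) : mat (genEl b t) = mdec om (genM b t) :=
  (exists_el isOmega_om card_F4 (genM_isSU b t)).choose_spec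

theorem realiser (b : Fin 3) (t : Fin 2) : ∃ h : genEl b t.castSucc ∈ Lb isOmega_om card_F4 b,
    permB isOmega_om card_F4 b ⟨_, h⟩ = permOf 112 (genCode t) := by
  have h := of_range mat_ok b.2
  simp only [matOK, Bool.and_eq_true] at h
  have hg := genEl_mat b t.castSucc
  have hmask : ∀ i : Fin 112, mask (((kFr b).getD i []).map (imgP (genM b t.castSucc))) =
      mask ((kFr b).getD (pimg (genCode t) i) []) := by
    intro i
    have hi := of_range h.2 i.2
    simp only [Bool.and_eq_true] at hi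
    fin_cases t
    · exact Nat.eq_of_beq_eq_true hi.1
    · exact Nat.eq_of_beq_eq_true hi.2
  have hc := genCode_valid t
  have himg : ∀ i : Fin 112, mv isOmega_om card_F4 (genEl b t.castSucc) (frB b i) =
      frB b ⟨pimg (genCode t) i, valid_lt hc i.2⟩ := by
    intro i
    rw [frB, frB, ← lst_congr (hmask i)]
    ext j
    rw [mem_mv, mem_lst, List.mem_map]
    constructor
    · rintro ⟨k, hk, rfl⟩
      exact ⟨k, mem_lst.1 hk, (act_code isOmega_om card_F4 hg k).symm⟩
    · rintro ⟨x, hx, e⟩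
      exact ⟨⟨x, kFr_lt b i x hx⟩, mem_lst.2 hx, Fin.ext ((act_code isOmega_om card_F4 hg _).trans e)⟩
  have hgL : genEl b t.castSucc ∈ Lb isOmega_om card_F4 b := fun S hS => by
    obtain ⟨i, rfl⟩ := mem_Bset.1 hS
    rw [himg]
    exact mem_Bset.2 ⟨_, rfl⟩
  refine ⟨hgL, Equiv.ext fun i => ?_⟩
  apply frB_injective b
  show frB b (idx isOmega_om card_F4 b ⟨_, hgL⟩ i) = _
  rw [idx_spec, himg]
  congr 1
  exact Fin.ext (permOf_val hc i).symm

theorem genEl_scal (b : Fin 3) : mat (genEl b 2) = om • (1 : Matrix (Fin 6) (Fin 6) F4) := by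
  rw [genEl_mat]
  ext r c
  show dec om (crd (colM scalM c) r) = _
  rw [scalM_entries r c, Matrix.smul_apply, Matrix.one_apply]
  split
  · rw [smul_eq_mul, mul_one]; decide +kernel
  · rw [smul_zero]; decide +kernel

theorem genEl_mem (b t : Fin 3) : genEl b t ∈ K b := by
  have hs : genEl b 2 ∈ K b := by
    exact Scal_le_Kb isOmega_om card_F4 b ⟨om, genEl_scal b⟩
  have hgen : ∀ u : Fin 2, genEl b u.castSucc ∈ K b := fun u => by
    obtain ⟨h, e⟩ := realiser b u
    refine (mem_Kb isOmega_om card_F4).2 ⟨h, ?_⟩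
    rw [e]
    refine CfsgLib.KnownA.PermCert.mem_genGroup ?_
    fin_cases u <;> simp [gensG, genCode]
  fin_cases t
  exacts [hgen 0, hgen 1, hs]

/-- The covers are generated by the three elements. -/
theorem K_eq_closure (b : Fin 3) : K b = Subgroup.closure (Set.range (genEl b)) := by
  set H := Subgroup.closure (Set.range (genEl b))
  have hle : H ≤ K b := (Subgroup.closure_le _).2 (by rintro _ ⟨t, rfl⟩; exact genEl_mem b t)
  refine le_antisymm (fun g hg => ?_) hle
  have hscal : ∀ x ∈ (Scal : Subgroup (GS F4)), x ∈ H := by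
    rintro x ⟨a, ha⟩
    have hs : genEl b 2 ∈ H := Subgroup.subset_closure ⟨2, rfl⟩
    have hm := genEl_scal b
    have hinj : ∀ y : GS F4, mat y = mat x → y = x := fun y e => Subtype.ext (Subtype.ext e)
    have h3 : a = 1 ∨ a = om ∨ a = om * om := by
      have : a ≠ 0 := by
        rintro rfl
        have := congrArg Matrix.det ha
        rw [zero_smul, Matrix.det_zero, show (mat x).det = 1 from x.1.2] at this
        exact one_ne_zero this
      exact (by decide +kernel : ∀ a : F4, a ≠ 0 → a = 1 ∨ a = om ∨ a = om * om) a this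
    rcases h3 with rfl | rfl | rfl
    · rw [← hinj 1 (by rw [ha, one_smul]; rfl)]; exact one_mem _
    · rw [← hinj _ (hm.trans ha.symm)]; exact hs
    · refine hinj (genEl b 2 * genEl b 2) ?_ ▸ mul_mem hs hs
      show mat (genEl b 2) * mat (genEl b 2) = _
      rw [hm, ha, smul_mul_smul_comm, mul_one]
  have hGP : GP ≤ (H.subgroupOf (Lb isOmega_om card_F4 b)).map (permB isOmega_om card_F4 b) := by
    refine CfsgLib.KnownA.PermCert.genGroup_le fun c hc => ?_
    simp only [gensG, List.mem_cons, List.not_mem_nil, or_false] at hc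
    rcases hc with rfl | rfl
    · obtain ⟨h, e⟩ := realiser b 0
      exact ⟨⟨_, h⟩, Subgroup.subset_closure ⟨_, rfl⟩, e⟩
    · obtain ⟨h, e⟩ := realiser b 1
      exact ⟨⟨_, h⟩, Subgroup.subset_closure ⟨_, rfl⟩, e⟩
  obtain ⟨hgL, hgp⟩ := (mem_Kb isOmega_om card_F4).1 hg
  obtain ⟨y, hy, e⟩ := hGP hgp
  have hyH : (y : GS F4) ∈ H := hy
  set k : Lb isOmega_om card_F4 b := y⁻¹ * ⟨g, hgL⟩
  have hk : (k : GS F4) ∈ H := by
    refine hscal _ (scal_of_fix isOmega_om card_F4 b (g := k) ?_)
    rw [map_mul, map_inv, e, inv_mul_cancel]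
  have := mul_mem hyH hk
  simpa [k] using this

theorem code_spec (b : Fin 3) {c : ℕ} (hc : c < 4096) :
    (∀ g < 3, lab b (mulV (genM b g) c) = lab b c) ∧
    ((c = 0 ∨ herm c c ≠ 0) ∧ lab b c = 0 ∨
      (c ≠ 0 ∧ herm c c = 0) ∧ (lab b c = 1 ∨ lab b c = 2) ∧
        ((c = if lab b c = 1 then smallRep else bigRep) ∨
          ∃ p t, p < 4096 ∧ t < 3 ∧ ent b p / 16384 % 256 < ent b c / 16384 % 256 ∧ lab b p = lab b c ∧
            mulV (genM b t) p = c)) := by
  have h : codeCheck b c = true := by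
    fin_cases b
    exacts [of_range check0 hc, of_range check1 hc, of_range check2 hc]
  simp only [codeCheck, Bool.and_eq_true, List.all_eq_true, Nat.beq_eq_true_eq] at h
  obtain ⟨h1, h2⟩ := h
  refine ⟨fun g hg => Nat.eq_of_beq_eq_true (h1 g (by interval_cases g <;> simp)), ?_⟩
  by_cases hd : c = 0 ∨ herm c c ≠ 0
  · rw [if_pos (by
      rcases hd with h | h
      · simp [h]
      · simp [Bool.eq_false_iff, h])] at h2
    exact Or.inl ⟨hd, Nat.eq_of_beq_eq_true h2⟩
  · push Not at hd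
    rw [if_neg (by simp [hd.1, hd.2])] at h2
    simp only [Bool.or_eq_true, Bool.and_eq_true, Nat.blt_eq] at h2
    refine Or.inr ⟨hd, h2.1.imp Nat.eq_of_beq_eq_true Nat.eq_of_beq_eq_true, h2.2.imp (fun h => ?_) fun h => ?_⟩
    · have e := Nat.eq_of_beq_eq_true h.2
      by_cases h1 : lab b c = 1
      · rw [if_pos h1]; rwa [if_pos (by simp [h1])] at e
      · rw [if_neg h1]; rwa [if_neg (by simp [h1])] at e
    · exact ⟨_, _, Nat.mod_lt _ (by norm_num), h.1.1.1, h.1.1.2, Nat.eq_of_beq_eq_true h.1.2,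
        Nat.eq_of_beq_eq_true h.2⟩

/-- The code of a vector. -/
noncomputable def codeV (v : V6) : ℕ := (vdec_surj isOmega_om card_F4 v).choose

theorem codeV_lt (v : V6) : codeV v < 4096 := (vdec_surj isOmega_om card_F4 v).choose_spec.1

theorem vdec_codeV (v : V6) : vdec om (codeV v) = v := (vdec_surj isOmega_om card_F4 v).choose_spec.2

theorem codeV_vdec {c : ℕ} (hc : c < 4096) : codeV (vdec om c) = c :=
  vdec_inj isOmega_om (codeV_lt _) hc (vdec_codeV _)

theorem vdec_zero : vdec om 0 = 0 := by decide +kernel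

theorem mulV_lt' (m : List ℕ) (c : ℕ) : mulV m c < 4096 := mulV_lt m c

theorem lab_mulVec {b : Fin 3} {g : GS F4} (hg : g ∈ K b) (v : V6) :
    lab b (codeV (mat g *ᵥ v)) = lab b (codeV v) := by
  rw [K_eq_closure] at hg
  induction hg using Subgroup.closure_induction generalizing v with
  | mem x hx =>
    obtain ⟨t, rfl⟩ := hx
    conv_lhs => rw [← vdec_codeV v, genEl_mat, ← vdec_mulV isOmega_om, codeV_vdec (mulV_lt _ _)]
    exact (code_spec b (codeV_lt v)).1 t t.2
  | one => rw [show mat (1 : GS F4) = 1 from rfl, one_mulVec]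
  | mul x y _ _ hx hy =>
    rw [show mat (x * y) = mat x * mat y from rfl, ← mulVec_mulVec, hx, hy]
  | inv x _ hx =>
    rw [← hx (mat x⁻¹ *ᵥ v), mulVec_mulVec, show mat x * mat x⁻¹ = mat (x * x⁻¹) from rfl, mul_inv_cancel,
      show mat (1 : GS F4) = 1 from rfl, one_mulVec]

/-- The orbit of a labelled code. -/
theorem reach (b : Fin 3) : ∀ n c, c < 4096 → ent b c / 16384 % 256 < n → lab b c ≠ 0 →
    ∃ g ∈ K b, mat g *ᵥ vdec om (if lab b c = 1 then smallRep else bigRep) = vdec om c := by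
  intro n
  induction n with
  | zero => intro c _ h; omega
  | succ n ih =>
    intro c hc hn h0
    rcases (code_spec b hc).2 with ⟨-, h⟩ | ⟨-, -, h | ⟨p, t, hp, ht, hr, hl, hm⟩⟩
    · exact absurd h h0
    · exact ⟨1, one_mem _, by rw [← h, show mat (1 : GS F4) = 1 from rfl, one_mulVec]⟩
    · obtain ⟨g, hg, e⟩ := ih p hp (by omega) (hl ▸ h0)
      refine ⟨genEl b ⟨t, ht⟩ * g, mul_mem (genEl_mem _ _) hg, ?_⟩
      rw [show mat (genEl b ⟨t, ht⟩ * g) = mat (genEl b ⟨t, ht⟩) * mat g from rfl, ← mulVec_mulVec, ← hl, e,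
        genEl_mat, ← vdec_mulV isOmega_om, hm]

theorem inSmall_iff (b : Fin 3) (v : V6) : InSmall b v ↔ lab b (codeV v) = 1 := by
  constructor
  · rintro ⟨g, hg, rfl⟩
    rw [lab_mulVec hg, codeV_vdec (by norm_num [smallRep])]
    exact (rep_lab b).1
  · intro h
    obtain ⟨g, hg, e⟩ := reach b 256 (codeV v) (codeV_lt v) (Nat.mod_lt _ (by norm_num)) (by omega)
    rw [if_pos h, vdec_codeV] at e
    exact ⟨g, hg, e⟩

theorem inBig_iff (b : Fin 3) (v : V6) : InBig b v ↔ lab b (codeV v) = 2 := by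
  constructor
  · rintro ⟨g, hg, rfl⟩
    rw [lab_mulVec hg, codeV_vdec (by norm_num [bigRep])]
    exact (rep_lab b).2
  · intro h
    obtain ⟨g, hg, e⟩ := reach b 256 (codeV v) (codeV_lt v) (Nat.mod_lt _ (by norm_num)) (by omega)
    rw [if_neg (by omega), vdec_codeV] at e
    exact ⟨g, hg, e⟩

theorem small_ne_big {b : Fin 3} {v : V6} (h : InSmall b v) : ¬ InBig b v := fun h' => by
  have := (inSmall_iff b v).1 h
  have := (inBig_iff b v).1 h'
  omega

theorem herm6_vdec (c d : ℕ) : herm6 (vdec om c) (vdec om d) = dec om (herm c d) :=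
  hermForm_dec isOmega_om c d

theorem herm6_self_eq_zero (c : ℕ) : herm6 (vdec om c) (vdec om c) = 0 ↔ herm c c = 0 := by
  rw [herm6_vdec]
  constructor
  · intro h
    have := dec_eq_zero isOmega_om h
    have := herm_lt c c
    omega
  · intro h; rw [h, dec_zero]

/-- Every nonzero isotropic vector lies in one of the two orbits. -/
theorem iso_cases (b : Fin 3) {v : V6} (hv : v ≠ 0) (h : herm6 v v = 0) : InSmall b v ∨ InBig b v := by
  rw [inSmall_iff, inBig_iff]
  rw [← vdec_codeV v, herm6_self_eq_zero] at h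
  rcases (code_spec b (codeV_lt v)).2 with ⟨h' | h', -⟩ | ⟨-, hl, -⟩
  · exact absurd (by rw [← vdec_codeV v, h', vdec_zero]) hv
  · exact absurd h h'
  · exact hl

theorem isotropic_of_orbit {b : Fin 3} {v : V6} (h : InSmall b v ∨ InBig b v) : v ≠ 0 ∧ herm6 v v = 0 := by
  rw [inSmall_iff, inBig_iff] at h
  rcases (code_spec b (codeV_lt v)).2 with ⟨-, h'⟩ | ⟨⟨h0, hh⟩, -, -⟩
  · omega
  · refine ⟨fun e => h0 ?_, by rw [← vdec_codeV v, herm6_self_eq_zero]; exact hh⟩
    rw [e, ← vdec_zero]; exact codeV_vdec (by norm_num)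

theorem InSmall.mulVec {b : Fin 3} {v : V6} (h : InSmall b v) {g : GS F4} (hg : g ∈ K b) :
    InSmall b (mat g *ᵥ v) := by
  rw [inSmall_iff] at h ⊢; rwa [lab_mulVec hg]

theorem InBig.mulVec {b : Fin 3} {v : V6} (h : InBig b v) {g : GS F4} (hg : g ∈ K b) :
    InBig b (mat g *ᵥ v) := by
  rw [inBig_iff] at h ⊢; rwa [lab_mulVec hg]

theorem InSmall.trans {b : Fin 3} {u v : V6} (hu : InSmall b u) (hv : InSmall b v) :
    ∃ g ∈ K b, mat g *ᵥ u = v := by
  obtain ⟨g, hg, rfl⟩ := hu
  obtain ⟨k, hk, rfl⟩ := hv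
  refine ⟨k * g⁻¹, mul_mem hk (inv_mem hg), ?_⟩
  rw [mulVec_mulVec, show mat (k * g⁻¹) * mat g = mat (k * g⁻¹ * g) from rfl, inv_mul_cancel_right]

theorem InBig.trans {b : Fin 3} {u v : V6} (hu : InBig b u) (hv : InBig b v) :
    ∃ g ∈ K b, mat g *ᵥ u = v := by
  obtain ⟨g, hg, rfl⟩ := hu
  obtain ⟨k, hk, rfl⟩ := hv
  refine ⟨k * g⁻¹, mul_mem hk (inv_mem hg), ?_⟩
  rw [mulVec_mulVec, show mat (k * g⁻¹) * mat g = mat (k * g⁻¹ * g) from rfl, inv_mul_cancel_right]

theorem card_lab (b : Fin 3) (l : ℕ) : Nat.card {v : V6 // lab b (codeV v) = l} =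
    (List.range 4096).countP fun c => Nat.beq (lab b c) l := by
  classical
  let e : {v : V6 // lab b (codeV v) = l} ≃ {c // c ∈ (Finset.range 4096).filter fun c => lab b c = l} :=
    { toFun := fun v => ⟨codeV v, Finset.mem_filter.2 ⟨Finset.mem_range.2 (codeV_lt _), v.2⟩⟩
      invFun := fun c => ⟨vdec om c, by
        rw [codeV_vdec (Finset.mem_range.1 (Finset.mem_filter.1 c.2).1)]; exact (Finset.mem_filter.1 c.2).2⟩
      left_inv := fun v => Subtype.ext (vdec_codeV _)
      right_inv := fun c => Subtype.ext (codeV_vdec (Finset.mem_range.1 (Finset.mem_filter.1 c.2).1)) }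
  rw [Nat.card_congr e, Nat.card_eq_fintype_card, Fintype.card_coe, List.countP_eq_length_filter,
    Finset.card_def, Finset.filter_val, Finset.range_val, Multiset.range, Multiset.filter_coe, Multiset.coe_card]
  refine congrArg List.length (List.filter_congr fun c _ => ?_)
  rw [Bool.eq_iff_iff, decide_eq_true_iff]
  exact ⟨fun h => by simp [h], Nat.eq_of_beq_eq_true⟩

theorem card_small (b : Fin 3) : Nat.card {v // InSmall b v} = 378 := by
  rw [Nat.card_congr (Equiv.subtypeEquivRight (inSmall_iff b)), card_lab, (count_labels b).1]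

theorem card_big (b : Fin 3) : Nat.card {v // InBig b v} = 1701 := by
  rw [Nat.card_congr (Equiv.subtypeEquivRight (inBig_iff b)), card_lab, (count_labels b).2]

end CfsgLib.Trans3.FiLarge
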