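import Cfsg.Agent.Lib.Trans3.FiLarge.Orbits

/-!
Changing coordinates by an element of the cover.
-/

set_option autoImplicit false
set_option linter.unusedSectionVars false

namespace CfsgLib.Trans3.FiLarge

open Matrix CfsgLib.Chev.U43U6

variable {G : Type*} [Group G] {z : G} {Q : Subgroup (Subgroup.centralizer ({z} : Set G))}

theorem mat_inv_mulVec (k : GS F4) (v : V6) : mat k⁻¹ *ᵥ (mat k *ᵥ v) = v := by
  rw [mulVec_mulVec, show mat k⁻¹ * mat k = mat (k⁻¹ * k) from rfl, inv_mul_cancel,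
    show mat (1 : GS F4) = 1 from rfl, one_mulVec]

/-- Coordinates composed with an element of the cover. -/
noncomputable def Coord.twist (c : Coord z Q) (k : GS F4) (hk : k ∈ K c.b) : Coord z Q where
  b := c.b
  pr q := mat k *ᵥ c.pr q
  pr_mul q hq r hr := by rw [c.pr_mul q hq r hr, mulVec_add]
  pr_surj v := by
    obtain ⟨q, hq, e⟩ := c.pr_surj (mat k⁻¹ *ᵥ v)
    refine ⟨q, hq, ?_⟩
    rw [e]
    conv_lhs => arg 1; rw [show k = k⁻¹⁻¹ from (inv_inv k).symm]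
    exact mat_inv_mulVec _ _
  pr_eq_zero q hq := by
    rw [← c.pr_eq_zero q hq]
    exact ⟨fun e => by rw [← mat_inv_mulVec k (c.pr q), e, mulVec_zero], fun e => by rw [e, mulVec_zero]⟩
  comm_iff q hq r hr := by
    rw [c.comm_iff q hq r hr]
    rw [show herm6 (mat k *ᵥ c.pr q) (mat k *ᵥ c.pr r) = herm6 (c.pr q) (c.pr r) from herm_mat k _ _]
  sq_iff q hq := by
    rw [c.sq_iff q hq]
    rw [show herm6 (mat k *ᵥ c.pr q) (mat k *ᵥ c.pr q) = herm6 (c.pr q) (c.pr q) from herm_mat k _ _]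
  M := c.M
  le_M := c.le_M
  index_M := c.index_M
  act := MonoidHom.mk' (fun m => k * c.act m * k⁻¹) fun a b => by rw [map_mul]; group
  range_act := by
    ext g
    constructor
    · rintro ⟨m, rfl⟩
      exact mul_mem (mul_mem hk (c.range_act ▸ ⟨m, rfl⟩)) (inv_mem hk)
    · intro hg
      obtain ⟨m, hm⟩ : k⁻¹ * g * k ∈ c.act.range := c.range_act ▸ mul_mem (mul_mem (inv_mem hk) hg) hk
      exact ⟨m, by show k * c.act m * k⁻¹ = g; rw [hm]; group⟩
  ker_act m := by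
    rw [← c.ker_act m]
    show k * c.act m * k⁻¹ = 1 ↔ _
    exact conj_eq_one_iff
  conj_pr m q hq := by
    show mat k *ᵥ c.pr _ = mat (k * c.act m * k⁻¹) *ᵥ (mat k *ᵥ c.pr q)
    rw [c.conj_pr m q hq, mulVec_mulVec, mulVec_mulVec]
    congr 1
    show mat (k * c.act m) = mat (k * c.act m * k⁻¹ * k)
    rw [inv_mul_cancel_right]
  faithful h hh := c.faithful h fun q hq => by
    have e : mat k⁻¹ *ᵥ (mat k *ᵥ c.pr (h * q * h⁻¹)) = mat k⁻¹ *ᵥ (mat k *ᵥ c.pr q) :=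
      congrArg (fun v => mat k⁻¹ *ᵥ v) (hh q hq)
    rwa [mat_inv_mulVec, mat_inv_mulVec] at e
  semi h := by
    obtain ⟨e, he, hs, hh⟩ := c.semi h
    refine ⟨e, he, fun q hq r hr a er => ?_, fun q hq r hr => ?_⟩
    · have e' : c.pr r = a • c.pr q := by
        have e2 : mat k⁻¹ *ᵥ (mat k *ᵥ c.pr r) = mat k⁻¹ *ᵥ (a • (mat k *ᵥ c.pr q)) :=
          congrArg (fun v => mat k⁻¹ *ᵥ v) er
        rwa [mulVec_smul, mat_inv_mulVec, mat_inv_mulVec] at e2
      rw [hs q hq r hr a e', mulVec_smul]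
    · rw [show herm6 (mat k *ᵥ c.pr (h * q * h⁻¹)) (mat k *ᵥ c.pr (h * r * h⁻¹)) =
        herm6 (c.pr (h * q * h⁻¹)) (c.pr (h * r * h⁻¹)) from herm_mat k _ _, hh q hq r hr]
      rw [show herm6 (mat k *ᵥ c.pr q) (mat k *ᵥ c.pr r) = herm6 (c.pr q) (c.pr r) from herm_mat k _ _]

theorem Coord.twist_pr (c : Coord z Q) (k : GS F4) (hk : k ∈ K c.b) (q : Subgroup.centralizer ({z} : Set G)) :
    (c.twist k hk).pr q = mat k *ᵥ c.pr q := rfl

theorem Coord.twist_M (c : Coord z Q) (k : GS F4) (hk : k ∈ K c.b) : (c.twist k hk).M = c.M := rfl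

end CfsgLib.Trans3.FiLarge
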